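import Cfsg.Agent.Lib.Presented.Ly.Centralizer
import Cfsg.Agent.Lib.Recognition.Carmichael
import Cfsg.Agent.S3335

/-!
# Uniqueness of the Lyons group: the centraliser of the involution of the model

`C11` is generated by the nine elements `xC i`; it maps onto the alternating group with them over the standard
generators; it has the automorphism `y ↦ y⁻¹`, `xC i ↦ τ xC i` of the outer transposition; an element centralising
`y` and the three elements `rigidList` is a power of `y` times an element of `⟨τ, u₀⟩`.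
-/

set_option autoImplicit false
set_option maxRecDepth 100000

noncomputable section

namespace CfsgLib.LyonsUnique

open Subgroup CfsgLib.Presented.Ly

theorem tauC_mul_tauC : tauC * tauC = 1 := Subtype.ext tau_sq

theorem tauC_mul_comm (g : ↥C11) : g * tauC = tauC * g := mem_center_iff.1 tauC_central g

theorem xC_sq {i : Fin 9} (hi : 1 ≤ (i : ℕ)) : xC i * xC i = tauC := Subtype.ext (x_sq hi i.2)

theorem xC_cube : xC 0 ^ 3 = 1 :=
  Subtype.ext (by show xc 0 ^ 3 = 1; rw [pow_succ, pow_two]; exact x0_cube)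

theorem xC_inv {i : Fin 9} (hi : 1 ≤ (i : ℕ)) : (xC i)⁻¹ = tauC * xC i := by
  refine inv_eq_of_mul_eq_one_right ?_
  rw [← mul_assoc, tauC_mul_comm, mul_assoc, xC_sq hi, tauC_mul_tauC]

theorem xC_far {i j : Fin 9} (hij : (i : ℕ) + 1 < j) : (xC i * xC j) ^ 2 = tauC := Subtype.ext (far_tau hij j.2)

theorem xC_adj {i j : Fin 9} (hij : (j : ℕ) = i + 1) : (xC i * xC j) ^ 3 = 1 ∨ (xC i * xC j) ^ 3 = tauC := by
  have h : Near ((xc i * xc (i + 1 : ℕ)) ^ 3) := adj_near (hij ▸ j.2)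
  rw [← hij] at h
  exact h.imp (fun e => Subtype.ext e) fun e => Subtype.ext e

/-- Distant generators anticommute. -/
theorem xC_anti {i j : Fin 9} (hi : 1 ≤ (i : ℕ)) (hij : (i : ℕ) + 1 < j) :
    xC i * xC j = tauC * (xC j * xC i) := by
  have h := xC_far hij
  rw [pow_two] at h
  rw [eq_mul_inv_of_mul_eq h, mul_inv_rev, xC_inv hi, xC_inv (show 1 ≤ (j : ℕ) by omega)]
  calc tauC * ((tauC * xC j) * (tauC * xC i)) = tauC * (tauC * (xC j * tauC) * xC i) := by group
    _ = tauC * tauC * tauC * (xC j * xC i) := by rw [tauC_mul_comm]; group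
    _ = tauC * (xC j * xC i) := by rw [tauC_mul_tauC, one_mul]

theorem mem_ZC {g : ↥C11} : g ∈ ZC ↔ g = 1 ∨ g = tauC := by
  constructor
  · intro h
    obtain ⟨n, rfl⟩ := mem_zpowers_iff.1 h
    rcases Int.even_or_odd n with ⟨k, rfl⟩ | ⟨k, rfl⟩
    · left
      rw [← two_mul, zpow_mul, zpow_two, tauC_mul_tauC, one_zpow]
    · right
      rw [zpow_add, zpow_mul, zpow_two, tauC_mul_tauC, one_zpow, one_mul, zpow_one]
  · rintro (rfl | rfl)
    · exact one_mem _
    · exact mem_zpowers _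

/-- The permutation under a generator. -/
def permX (i : Fin 9) : Equiv.Perm (Fin 11) :=
  if i = 0 then Equiv.swap 0 1 * Equiv.swap 1 2
  else Equiv.swap 0 1 * Equiv.swap ⟨i + 1, by omega⟩ ⟨i + 2, by omega⟩

theorem permX_rels : (permX 0 ^ 3 = 1) ∧ (∀ i : Fin 9, 1 ≤ (i : ℕ) → permX i ^ 2 = 1) ∧
    (∀ i j : Fin 9, (j : ℕ) = i + 1 → (permX i * permX j) ^ 3 = 1) ∧
    ∀ i j : Fin 9, (i : ℕ) + 1 < j → (permX i * permX j) ^ 2 = 1 := by
  refine ⟨?_, ?_, ?_, ?_⟩ <;> decide +kernel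

theorem permX_sign : ∀ i, Equiv.Perm.sign (permX i) = 1 := by decide +kernel

/-- A sequence from nine elements. -/
def seq9 {X : Type*} [Group X] (f : Fin 9 → X) (n : ℕ) : X := if h : n < 9 then f ⟨n, h⟩ else 1

theorem seq9_eq {X : Type*} [Group X] (f : Fin 9 → X) (i : Fin 9) : seq9 f i = f i := dif_pos i.2

/-- At most half of `11!` elements are generated by elements satisfying the relations. -/
theorem card_closure_le {X : Type*} [Group X] (f : Fin 9 → X) (h0 : f 0 ^ 3 = 1)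
    (h2 : ∀ i : Fin 9, 1 ≤ (i : ℕ) → f i ^ 2 = 1)
    (h3 : ∀ i j : Fin 9, (j : ℕ) = i + 1 → (f i * f j) ^ 3 = 1)
    (h4 : ∀ i j : Fin 9, (i : ℕ) + 1 < j → (f i * f j) ^ 2 = 1) :
    Finite (closure (Set.range f)) ∧ Nat.card (closure (Set.range f)) ≤ 19958400 := by
  set H := closure (Set.range f) with hH
  let x : Fin 9 → H := fun i => ⟨f i, subset_closure ⟨i, rfl⟩⟩
  have hR : CfsgLib.Carmichael.Rels (seq9 x) 9 := by
    refine ⟨fun _ => ?_, fun i h1 hi => ?_, fun i hi => ?_, fun i j hij hj => ?_⟩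
    · rw [show seq9 x 0 = x 0 from seq9_eq x 0]; exact Subtype.ext h0
    · rw [show seq9 x i = x ⟨i, hi⟩ from seq9_eq x ⟨i, hi⟩]; exact Subtype.ext (h2 ⟨i, hi⟩ h1)
    · rw [show seq9 x i = x ⟨i, by omega⟩ from seq9_eq x ⟨i, by omega⟩,
        show seq9 x (i + 1) = x ⟨i + 1, hi⟩ from seq9_eq x ⟨i + 1, hi⟩]
      exact Subtype.ext (h3 _ _ rfl)
    · rw [show seq9 x i = x ⟨i, by omega⟩ from seq9_eq x ⟨i, by omega⟩,
        show seq9 x j = x ⟨j, hj⟩ from seq9_eq x ⟨j, hj⟩]
      exact Subtype.ext (h4 _ _ hij)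
  have htop : closure (seq9 x '' {i | i < 9}) = ⊤ := by
    refine eq_top_iff.2 fun h _ => ?_
    have hh : (h : X) ∈ (closure (seq9 x '' {i | i < 9})).map H.subtype := by
      rw [MonoidHom.map_closure]
      refine (Subgroup.closure_mono ?_) h.2
      rintro _ ⟨i, rfl⟩
      exact ⟨x i, ⟨i, i.2, seq9_eq x i⟩, rfl⟩
    obtain ⟨k, hk, e⟩ := hh
    exact Subtype.ext e ▸ hk
  obtain ⟨hfin, hc⟩ := CfsgLib.Carmichael.finite_card_le 9 H (seq9 x) hR htop
  refine ⟨hfin, ?_⟩
  have hf : (9 + 2).factorial = 39916800 := by decide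
  omega

theorem card_quot : Nat.card (↥C11 ⧸ ZC) = 19958400 := by
  obtain ⟨e⟩ := exists_equiv
  rw [← Nat.card_congr e.toEquiv]
  exact card_alt

theorem card_C11 : Nat.card ↥C11 = 39916800 := by
  rw [card_eq_card_quotient_mul_card_subgroup ZC, card_quot, card_ZC]

theorem permX_generate : alternatingGroup (Fin 11) ≤ closure (Set.range permX) := by
  intro σ hσ
  have hle : closure (Cfsg.Agent.S3335.gen 9 '' {i | i < 9}) ≤ closure (Set.range permX) := by
    refine Subgroup.closure_mono ?_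
    rintro _ ⟨i, hi, rfl⟩
    refine ⟨⟨i, hi⟩, ?_⟩
    have h : ∀ k : Fin 9, permX k = Cfsg.Agent.S3335.gen 9 k := by decide +kernel
    exact h ⟨i, hi⟩
  exact hle (Cfsg.Agent.S3335.gen_generates 9 hσ)

/-- The generators generate, and map onto the standard generators. -/
theorem closure_xC_and_perm : closure (Set.range xC) = (⊤ : Subgroup ↥C11) ∧
    ∃ p : ↥C11 →* Equiv.Perm (Fin 11), p.ker = ZC ∧ ∀ i, p (xC i) = permX i := by
  classical
  haveI := finite_Ly
  set qm := QuotientGroup.mk' ZC with hqm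
  have hz : ∀ g : ↥C11, g = 1 ∨ g = tauC → qm g = 1 := fun g h => (QuotientGroup.eq_one_iff g).2 (mem_ZC.2 h)
  obtain ⟨r0, r2, r3, r4⟩ := permX_rels
  set f : Fin 9 → (↥C11 ⧸ ZC) × Equiv.Perm (Fin 11) := fun i => (qm (xC i), permX i) with hf
  obtain ⟨hfin, hle⟩ := card_closure_le f
    (Prod.ext (by rw [hf]; show qm (xC 0) ^ 3 = 1; rw [← map_pow, xC_cube, map_one]) r0)
    (fun i hi => Prod.ext (by show qm (xC i) ^ 2 = 1; rw [← map_pow]; exact hz _ (Or.inr (by rw [pow_two, xC_sq hi])))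
      (r2 i hi))
    (fun i j hij => Prod.ext (by show (qm (xC i) * qm (xC j)) ^ 3 = 1; rw [← map_mul, ← map_pow]; exact hz _ (xC_adj hij))
      (r3 i j hij))
    (fun i j hij => Prod.ext (by
      show (qm (xC i) * qm (xC j)) ^ 2 = 1
      rw [← map_mul, ← map_pow]; exact hz _ (Or.inr (xC_far hij))) (r4 i j hij))
  haveI := hfin
  set D := closure (Set.range f) with hD
  have hf1 : (f 1).1 ≠ 1 := fun e => by
    rcases mem_ZC.1 ((QuotientGroup.eq_one_iff _).1 e) with h | h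
    · have := xC_sq (i := 1) le_rfl
      rw [h, one_mul] at this
      exact tau_ne (congrArg Subtype.val this.symm)
    · have := xC_sq (i := 1) le_rfl
      rw [h, tauC_mul_tauC] at this
      exact tau_ne (congrArg Subtype.val this.symm)
  let s : D →* alternatingGroup (Fin 11) := ((MonoidHom.snd _ _).comp D.subtype).codRestrict _ fun d => by
    have h : D ≤ (alternatingGroup (Fin 11)).comap (MonoidHom.snd _ _) := by
      rw [hD, closure_le]
      rintro _ ⟨i, rfl⟩
      exact Equiv.Perm.mem_alternatingGroup.2 (permX_sign i)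
    exact h d.2
  have hs : Function.Surjective s := by
    rintro ⟨σ, hσ⟩
    have h : closure (Set.range permX) ≤ D.map (MonoidHom.snd _ _) := by
      rw [closure_le]
      rintro _ ⟨i, rfl⟩
      exact ⟨f i, subset_closure ⟨i, rfl⟩, rfl⟩
    obtain ⟨d, hd, e⟩ := h (permX_generate hσ)
    exact ⟨⟨d, hd⟩, Subtype.ext e⟩
  have hcard : Nat.card D = 19958400 :=
    le_antisymm hle (card_alt.ge.trans (Nat.card_le_card_of_surjective s hs))
  have hsb : Function.Bijective s := (Nat.bijective_iff_surjective_and_card _).2 ⟨hs, hcard.trans card_alt.symm⟩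
  haveI : IsSimpleGroup (alternatingGroup (Fin 11)) := alternatingGroup.isSimpleGroup (by simp)
  haveI : Nontrivial D := Finite.one_lt_card_iff_nontrivial.1 (by rw [hcard]; norm_num)
  haveI : IsSimpleGroup D :=
    IsSimpleGroup.isSimpleGroup_of_surjective (MulEquiv.ofBijective s hsb).symm.toMonoidHom (MulEquiv.surjective _)
  let a : D →* ↥C11 ⧸ ZC := (MonoidHom.fst _ _).comp D.subtype
  have ha : Function.Bijective a := by
    refine (Nat.bijective_iff_injective_and_card a).2 ⟨?_, hcard.trans card_quot.symm⟩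
    rw [← MonoidHom.ker_eq_bot_iff]
    refine (MonoidHom.normal_ker a).eq_bot_or_eq_top.resolve_right fun h => hf1 ?_
    exact a.mem_ker.1 (h ▸ mem_top (⟨f 1, subset_closure ⟨1, rfl⟩⟩ : D))
  have htop : closure (Set.range xC) = (⊤ : Subgroup ↥C11) := by
    have hτ : tauC ∈ closure (Set.range xC) := by
      rw [← xC_sq (i := 1) le_rfl]
      exact mul_mem (subset_closure ⟨1, rfl⟩) (subset_closure ⟨1, rfl⟩)
    refine eq_top_iff.2 fun g _ => ?_
    obtain ⟨d, hd⟩ := ha.2 (qm g)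
    have h : D ≤ ((closure (Set.range xC)).map qm).comap (MonoidHom.fst _ _) := by
      rw [hD, closure_le]
      rintro _ ⟨i, rfl⟩
      exact mem_map_of_mem qm (subset_closure ⟨i, rfl⟩)
    obtain ⟨k, hk, e⟩ := h d.2
    have hkg : qm k = qm g := e.trans hd
    rcases mem_ZC.1 (QuotientGroup.eq.1 hkg) with h1 | h1
    · rwa [← inv_mul_eq_one.1 h1]
    · rw [show g = k * tauC from by rw [← h1, mul_inv_cancel_left]]
      exact mul_mem hk hτ
  let ea := MulEquiv.ofBijective a ha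
  refine ⟨htop, ((MonoidHom.snd _ _).comp D.subtype).comp (ea.symm.toMonoidHom.comp qm), ?_, fun i => ?_⟩
  · ext g
    rw [MonoidHom.mem_ker]
    constructor
    · intro h
      have h1 : s (ea.symm (qm g)) = 1 := Subtype.ext h
      have h2 := (map_eq_one_iff s hsb.1).1 h1
      exact (QuotientGroup.eq_one_iff g).1 (ea.symm.injective (h2.trans (map_one ea.symm).symm))
    · intro h
      show ((ea.symm (qm g) : D) : (↥C11 ⧸ ZC) × Equiv.Perm (Fin 11)).2 = 1
      rw [show qm g = 1 from (QuotientGroup.eq_one_iff g).2 h, map_one]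
      rfl
  · have h : ea.symm (qm (xC i)) = (⟨f i, subset_closure ⟨i, rfl⟩⟩ : D) := by
      rw [MulEquiv.symm_apply_eq]; rfl
    show ((ea.symm (qm (xC i)) : D) : (↥C11 ⧸ ZC) × Equiv.Perm (Fin 11)).2 = permX i
    rw [h]

/-- The nine elements generate the centraliser. -/
theorem closure_xC : closure (Set.range xC) = (⊤ : Subgroup ↥C11) := closure_xC_and_perm.1

/-- The quotient map onto the alternating group in standard coordinates. -/
theorem exists_perm : ∃ p : ↥C11 →* Equiv.Perm (Fin 11), p.ker = ZC ∧ ∀ i, p (xC i) = permX i :=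
  closure_xC_and_perm.2

/-- The image of the generators under the outer automorphism. -/
def twistX (i : Fin 9) : ↥C11 := if i = 0 then (xC 0)⁻¹ else tauC * xC i

theorem twistX_zero : twistX 0 = (xC 0)⁻¹ := if_pos rfl

theorem twistX_pos {i : Fin 9} (hi : 1 ≤ (i : ℕ)) : twistX i = tauC * xC i :=
  if_neg fun e => by rw [e] at hi; simp at hi

theorem tauC_mul_pow (g : ↥C11) (n : ℕ) : (tauC * g) ^ n = tauC ^ n * g ^ n :=
  (show Commute tauC g from (tauC_mul_comm g).symm).mul_pow n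

theorem twistX_pow_mul {i j : Fin 9} (hij : (i : ℕ) < j) {n : ℕ} (hn : (xC i * xC j) ^ n ∈ ZC) :
    (twistX i * twistX j) ^ n = (xC i * xC j) ^ n := by
  have hτ : ∀ m : ℕ, tauC ^ (2 * m) = 1 := fun m => by rw [pow_mul, pow_two, tauC_mul_tauC, one_pow]
  have hj : 1 ≤ (j : ℕ) := by omega
  have hcen : ∀ z ∈ ZC, ∀ g : ↥C11, g * z = z * g := fun z hz g =>
    mem_center_iff.1 (center_C11.ge hz) g
  by_cases hi : i = 0
  · subst hi
    rw [twistX_zero, twistX_pos hj]
    have e : (xC 0)⁻¹ * (tauC * xC j) = (xC 0)⁻¹ * (xC 0 * xC j)⁻¹ * xC 0 := by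
      rw [mul_inv_rev, xC_inv hj, mul_assoc, mul_assoc, inv_mul_cancel, mul_one]
    rw [e, show (xC 0)⁻¹ * (xC 0 * xC j)⁻¹ * xC 0 = MulAut.conj (xC 0)⁻¹ (xC 0 * xC j)⁻¹ by simp,
      ← map_pow, inv_pow]
    have hinv : ((xC 0 * xC j) ^ n)⁻¹ = (xC 0 * xC j) ^ n := by
      rcases mem_ZC.1 hn with h | h
      · rw [h, inv_one]
      · rw [h]; exact inv_eq_of_mul_eq_one_right tauC_mul_tauC
    rw [hinv, MulAut.conj_apply, hcen _ hn (xC 0)⁻¹, mul_inv_cancel_right]
  · have hi1 : 1 ≤ (i : ℕ) := Nat.one_le_iff_ne_zero.2 fun e => hi (Fin.ext e)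
    rw [twistX_pos hi1, twistX_pos hj,
      show tauC * xC i * (tauC * xC j) = tauC * tauC * (xC i * xC j) by
        rw [mul_assoc, ← mul_assoc (xC i) tauC, tauC_mul_comm (xC i), mul_assoc, ← mul_assoc tauC tauC],
      tauC_mul_tauC, one_mul]

/-- **The outer automorphism.** -/
theorem exists_twist : ∃ π : MulAut ↥C11, π (xC 0) = (xC 0)⁻¹ ∧
    ∀ i : Fin 9, 1 ≤ (i : ℕ) → π (xC i) = tauC * xC i := by
  classical
  haveI := finite_Ly
  have hsq : ∀ i : Fin 9, 1 ≤ (i : ℕ) → twistX i * twistX i = tauC := fun i hi => by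
    rw [twistX_pos hi, ← pow_two, tauC_mul_pow, pow_two, pow_two, tauC_mul_tauC, one_mul, xC_sq hi]
  have hcube : twistX 0 ^ 3 = 1 := by rw [twistX_zero, inv_pow, xC_cube, inv_one]
  set f : Fin 9 → ↥C11 × ↥C11 := fun i => (xC i, twistX i) with hf
  set D := closure (Set.range f) with hD
  have hzD : ((tauC, tauC) : ↥C11 × ↥C11) ∈ D := by
    have : f 1 * f 1 = (tauC, tauC) := Prod.ext (xC_sq le_rfl) (hsq 1 le_rfl)
    rw [← this]
    exact mul_mem (subset_closure ⟨1, rfl⟩) (subset_closure ⟨1, rfl⟩)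
  set Z : Subgroup (↥C11 × ↥C11) := zpowers (tauC, tauC) with hZ
  haveI : Z.Normal := by
    refine ⟨fun n hn g => ?_⟩
    obtain ⟨k, rfl⟩ := mem_zpowers_iff.1 hn
    have hc : Commute g (tauC, tauC) := Prod.ext (tauC_mul_comm g.1) (tauC_mul_comm g.2)
    rw [(hc.zpow_right k).eq, mul_inv_cancel_right]
    exact hn
  set qm := QuotientGroup.mk' Z with hqm
  have hq : ∀ a b : ↥C11, a = b → (a = 1 ∨ a = tauC) → qm (a, b) = 1 := by
    rintro a b rfl (rfl | rfl)
    · exact map_one qm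
    · exact (QuotientGroup.eq_one_iff _).2 (mem_zpowers _)
  obtain ⟨hfin, hle⟩ := card_closure_le (fun i => qm (f i))
    (by rw [← map_pow]; exact hq _ _ (show xC 0 ^ 3 = twistX 0 ^ 3 by rw [xC_cube, hcube]) (Or.inl xC_cube))
    (fun i hi => by
      rw [← map_pow]
      exact hq _ _ (show xC i ^ 2 = twistX i ^ 2 by rw [pow_two, pow_two, xC_sq hi, hsq i hi])
        (Or.inr (by show xC i ^ 2 = tauC; rw [pow_two, xC_sq hi])))
    (fun i j hij => by
      rw [← map_mul, ← map_pow]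
      exact hq _ _ (twistX_pow_mul (by omega) (mem_ZC.2 (xC_adj hij))).symm (xC_adj hij))
    (fun i j hij => by
      rw [← map_mul, ← map_pow]
      exact hq _ _ (twistX_pow_mul (by omega) (mem_ZC.2 (Or.inr (xC_far hij)))).symm (Or.inr (xC_far hij)))
  have hcard : Nat.card D ≤ 39916800 := by
    have hmap : D.map qm = closure (Set.range fun i => qm (f i)) := by
      rw [hD, MonoidHom.map_closure, ← Set.range_comp]; rfl
    let g : D →* D.map qm := qm.subgroupMap D
    have h1 := card_eq_card_quotient_mul_card_subgroup g.ker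
    rw [Nat.card_congr (QuotientGroup.quotientKerEquivOfSurjective g (qm.subgroupMap_surjective D)).toEquiv] at h1
    have h2 : Nat.card g.ker ≤ 2 := by
      have hZ2 : Nat.card Z = 2 := by
        rw [hZ, Nat.card_zpowers]
        exact orderOf_eq_prime (by rw [pow_two]; exact Prod.ext tauC_mul_tauC tauC_mul_tauC)
          fun e => tau_ne (congrArg (fun d : ↥C11 × ↥C11 => (d.1 : Cfsg.Spor.Ly)) e)
      rw [← hZ2]
      refine Nat.card_le_card_of_injective
        (fun d => (⟨((d : D) : ↥C11 × ↥C11), (QuotientGroup.eq_one_iff _).1 (congrArg Subtype.val d.2)⟩ : Z))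
        fun d d' e => Subtype.ext (Subtype.ext (congrArg (fun z : Z => (z : ↥C11 × ↥C11)) e))
    rw [h1]
    calc Nat.card (D.map qm) * Nat.card g.ker ≤ 19958400 * 2 :=
          Nat.mul_le_mul (le_of_eq_of_le (by rw [hmap]) hle) h2
      _ = _ := by norm_num
  let a : D →* ↥C11 := (MonoidHom.fst _ _).comp D.subtype
  have hsurj : Function.Surjective a := fun c => by
    have h : closure (Set.range xC) ≤ D.map (MonoidHom.fst _ _) := by
      rw [closure_le]
      rintro _ ⟨i, rfl⟩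
      exact ⟨f i, subset_closure ⟨i, rfl⟩, rfl⟩
    obtain ⟨d, hd, e⟩ := h (closure_xC.ge (mem_top c))
    exact ⟨⟨d, hd⟩, e⟩
  have hbij : Function.Bijective a := (Nat.bijective_iff_surjective_and_card _).2
    ⟨hsurj, le_antisymm (hcard.trans card_C11.ge) (Nat.card_le_card_of_surjective a hsurj)⟩
  let φ : ↥C11 →* ↥C11 :=
    ((MonoidHom.snd _ _).comp D.subtype).comp (MulEquiv.ofBijective a hbij).symm.toMonoidHom
  have hφ : ∀ i, φ (xC i) = twistX i := fun i => by
    have h : (MulEquiv.ofBijective a hbij).symm (xC i) = (⟨f i, subset_closure ⟨i, rfl⟩⟩ : D) := by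
      rw [MulEquiv.symm_apply_eq]; rfl
    show (((MulEquiv.ofBijective a hbij).symm (xC i) : D) : ↥C11 × ↥C11).2 = twistX i
    rw [h]
  have hφτ : φ tauC = tauC := by
    conv_lhs => rw [← xC_sq (i := 1) le_rfl]
    rw [map_mul, hφ, hsq 1 le_rfl]
  have hinv : φ.comp φ = MonoidHom.id _ := by
    refine MonoidHom.eq_of_eqOn_dense closure_xC ?_
    rintro _ ⟨i, rfl⟩
    show φ (φ (xC i)) = xC i
    rw [hφ]
    by_cases hi : i = 0
    · subst hi; rw [twistX_zero, map_inv, hφ, twistX_zero, inv_inv]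
    · have hi1 : 1 ≤ (i : ℕ) := Nat.one_le_iff_ne_zero.2 fun e => hi (Fin.ext e)
      rw [twistX_pos hi1, map_mul, hφτ, hφ, twistX_pos hi1, ← mul_assoc, tauC_mul_tauC, one_mul]
  exact ⟨φ.toMulEquiv φ hinv hinv, (hφ 0).trans twistX_zero, fun i hi => (hφ i).trans (twistX_pos hi)⟩

/-- The involution over `(3 4)(5 6)(7 8)(9 10)`. -/
def u0C : ↥C11 := xC 8 * xC 6 * xC 4 * xC 2

/-- Elements over `(3 4)(5 6)`, `(3 5 7)(4 6 8)`, `(5 7 9)(6 8 10)`. -/
def rigidList : List ↥C11 :=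
  [xC 2 * xC 4,
    xC 3 * xC 2 * xC 4 * xC 3 * (xC 5 * xC 4 * xC 6 * xC 5),
    xC 5 * xC 4 * xC 6 * xC 5 * (xC 7 * xC 6 * xC 8 * xC 7)]

/-- An element with image of order three commutes with `u₀` if the images commute. -/
theorem commute_of_perm {p : ↥C11 →* Equiv.Perm (Fin 11)} (hp : p.ker = ZC) {z : ↥C11}
    (h1 : p z ^ 3 = 1) (h2 : p z * p u0C = p u0C * p z) : z * u0C = u0C * z := by
  have hk : z * u0C * z⁻¹ * u0C⁻¹ ∈ ZC := by
    rw [← hp, MonoidHom.mem_ker, map_mul, map_mul, map_mul, map_inv, map_inv, h2, mul_inv_cancel_right,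
      mul_inv_cancel]
  rcases mem_ZC.1 hk with e | e
  · rwa [mul_inv_eq_one, mul_inv_eq_iff_eq_mul] at e
  · exfalso
    rw [mul_inv_eq_iff_eq_mul] at e
    have hz3 : z ^ 3 ∈ ZC := by rw [← hp, MonoidHom.mem_ker, map_pow, h1]
    have hc : z ^ 3 * u0C * (z ^ 3)⁻¹ = u0C := by
      rw [← mem_center_iff.1 (center_C11.ge hz3) u0C, mul_inv_cancel_right]
    have hit : z ^ 3 * u0C * (z ^ 3)⁻¹ = tauC * tauC * tauC * u0C := by
      have hτ : z * tauC * z⁻¹ = tauC := by rw [tauC_mul_comm, mul_inv_cancel_right]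
      have hφu : MulAut.conj z u0C = tauC * u0C := e
      have hφt : MulAut.conj z tauC = tauC := hτ
      calc z ^ 3 * u0C * (z ^ 3)⁻¹ = MulAut.conj z (MulAut.conj z (MulAut.conj z u0C)) := by
            simp only [MulAut.conj_apply]; rw [pow_succ, pow_two]; group
        _ = tauC * (tauC * (tauC * u0C)) := by simp only [hφu, map_mul, hφt]
        _ = tauC * tauC * tauC * u0C := by group
    rw [hc, tauC_mul_tauC, one_mul, right_eq_mul] at hit
    exact tau_ne (congrArg Subtype.val hit)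

theorem commute_u0C {x : ↥C11} (hx : x ∈ rigidList) : x * u0C = u0C * x := by
  obtain ⟨p, hp, hpx⟩ := exists_perm
  simp only [rigidList, List.mem_cons, List.not_mem_nil, or_false] at hx
  rcases hx with rfl | rfl | rfl
  · have flip : ∀ (a b : ↥C11), a * b = tauC * (b * a) → b * a = tauC * (a * b) := fun a b h => by
      rw [h, ← mul_assoc, tauC_mul_tauC, one_mul]
    have push : ∀ (a b : ↥C11), a * b = tauC * (b * a) → ∀ g, a * (b * g) = tauC * (b * (a * g)) :=
      fun a b h g => by rw [← mul_assoc, h]; group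
    have t : ∀ (a g : ↥C11), a * (tauC * g) = tauC * (a * g) := fun a g => by
      rw [← mul_assoc, tauC_mul_comm, mul_assoc]
    have tt : ∀ g : ↥C11, tauC * (tauC * g) = g := fun g => by rw [← mul_assoc, tauC_mul_tauC, one_mul]
    have a28 := xC_anti (i := 2) (j := 8) (by decide) (by decide)
    have a26 := xC_anti (i := 2) (j := 6) (by decide) (by decide)
    have a24 := xC_anti (i := 2) (j := 4) (by decide) (by decide)
    have a48 := xC_anti (i := 4) (j := 8) (by decide) (by decide)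
    have a46 := xC_anti (i := 4) (j := 6) (by decide) (by decide)
    have q2 : ∀ g, xC 2 * (u0C * g) = tauC * (u0C * (xC 2 * g)) := fun g => by
      simp only [u0C, mul_assoc, push _ _ a28, push _ _ a26, push _ _ a24, t, tt]
    have q4 : ∀ g, xC 4 * (u0C * g) = tauC * (u0C * (xC 4 * g)) := fun g => by
      simp only [u0C, mul_assoc, push _ _ a48, push _ _ a46, push _ _ (flip _ _ a24), t, tt]
    calc xC 2 * xC 4 * u0C = xC 2 * (xC 4 * (u0C * 1)) := by rw [mul_one, mul_assoc]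
      _ = u0C * (xC 2 * (xC 4 * 1)) := by rw [q4, t, q2, tt]
      _ = u0C * (xC 2 * xC 4) := by rw [mul_one]
  · refine commute_of_perm hp ?_ ?_ <;> simp only [u0C, map_mul, hpx] <;> decide +kernel
  · refine commute_of_perm hp ?_ ?_ <;> simp only [u0C, map_mul, hpx] <;> decide +kernel

theorem commute_xC_zero_u0C : Commute (xC 0) u0C := by
  obtain ⟨p, hp, hpx⟩ := exists_perm
  refine commute_of_perm hp ?_ ?_ <;> simp only [u0C, map_mul, hpx] <;> decide +kernel

/-- A permutation commuting with the images of `y` and of `rigidList`. -/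
theorem perm_rigid (σ : Equiv.Perm (Fin 11)) (t₀ t₁ t₂ : Equiv.Perm (Fin 11))
    (h0 : t₀ = permX 2 * permX 4)
    (h1 : t₁ = permX 3 * permX 2 * permX 4 * permX 3 * (permX 5 * permX 4 * permX 6 * permX 5))
    (h2 : t₂ = permX 5 * permX 4 * permX 6 * permX 5 * (permX 7 * permX 6 * permX 8 * permX 7))
    (cy : ∀ k, σ (permX 0 k) = permX 0 (σ k)) (c0 : ∀ k, σ (t₀ k) = t₀ (σ k))
    (c1 : ∀ k, σ (t₁ k) = t₁ (σ k)) (c2 : ∀ k, σ (t₂ k) = t₂ (σ k)) :
    ∃ i : Fin 3, ∃ e : Fin 2, σ = permX 0 ^ (i : ℕ) * (permX 8 * permX 6 * permX 4 * permX 2) ^ (e : ℕ) := by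
  subst h0 h1 h2
  have ha : permX 0 (σ 3) = σ 3 ∧
      (permX 5 * permX 4 * permX 6 * permX 5 * (permX 7 * permX 6 * permX 8 * permX 7)) (σ 3) = σ 3 := by
    constructor
    · rw [← cy]; exact congrArg σ (by decide +kernel)
    · rw [← c2]; exact congrArg σ (by decide +kernel)
  have hb : (permX 2 * permX 4) (σ 0) = σ 0 ∧
      (permX 5 * permX 4 * permX 6 * permX 5 * (permX 7 * permX 6 * permX 8 * permX 7)) (σ 0) = σ 0 ∧
      (permX 3 * permX 2 * permX 4 * permX 3 * (permX 5 * permX 4 * permX 6 * permX 5)) (σ 0) = σ 0 := by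
    refine ⟨?_, ?_, ?_⟩
    · rw [← c0]; exact congrArg σ (by decide +kernel)
    · rw [← c2]; exact congrArg σ (by decide +kernel)
    · rw [← c1]; exact congrArg σ (by decide +kernel)
  have hex : ∀ a b : Fin 11, permX 0 b = b →
      (permX 5 * permX 4 * permX 6 * permX 5 * (permX 7 * permX 6 * permX 8 * permX 7)) b = b →
      (permX 2 * permX 4) a = a →
      (permX 5 * permX 4 * permX 6 * permX 5 * (permX 7 * permX 6 * permX 8 * permX 7)) a = a →
      (permX 3 * permX 2 * permX 4 * permX 3 * (permX 5 * permX 4 * permX 6 * permX 5)) a = a →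
      ∃ i : Fin 3, ∃ e : Fin 2,
        (permX 0 ^ (i : ℕ) * (permX 8 * permX 6 * permX 4 * permX 2) ^ (e : ℕ)) 0 = a ∧
        (permX 0 ^ (i : ℕ) * (permX 8 * permX 6 * permX 4 * permX 2) ^ (e : ℕ)) 3 = b := by decide +kernel
  obtain ⟨i, e, h0, h3⟩ := hex (σ 0) (σ 3) ha.1 ha.2 hb.1 hb.2.1 hb.2.2
  refine ⟨i, e, ?_⟩
  set r := permX 0 ^ (i : ℕ) * (permX 8 * permX 6 * permX 4 * permX 2) ^ (e : ℕ) with hr
  have hcr : (∀ k, r (permX 0 k) = permX 0 (r k)) ∧ (∀ k, r ((permX 2 * permX 4) k) = (permX 2 * permX 4) (r k)) ∧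
      (∀ k, r ((permX 3 * permX 2 * permX 4 * permX 3 * (permX 5 * permX 4 * permX 6 * permX 5)) k) =
        (permX 3 * permX 2 * permX 4 * permX 3 * (permX 5 * permX 4 * permX 6 * permX 5)) (r k)) ∧
      (∀ k, r ((permX 5 * permX 4 * permX 6 * permX 5 * (permX 7 * permX 6 * permX 8 * permX 7)) k) =
        (permX 5 * permX 4 * permX 6 * permX 5 * (permX 7 * permX 6 * permX 8 * permX 7)) (r k)) := by
    clear_value r
    subst hr
    have h := (show ∀ (i : Fin 3) (e : Fin 2),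
      (∀ k, (permX 0 ^ (i : ℕ) * (permX 8 * permX 6 * permX 4 * permX 2) ^ (e : ℕ)) (permX 0 k) =
        permX 0 ((permX 0 ^ (i : ℕ) * (permX 8 * permX 6 * permX 4 * permX 2) ^ (e : ℕ)) k)) ∧
      (∀ k, (permX 0 ^ (i : ℕ) * (permX 8 * permX 6 * permX 4 * permX 2) ^ (e : ℕ)) ((permX 2 * permX 4) k) =
        (permX 2 * permX 4) ((permX 0 ^ (i : ℕ) * (permX 8 * permX 6 * permX 4 * permX 2) ^ (e : ℕ)) k)) ∧
      (∀ k, (permX 0 ^ (i : ℕ) * (permX 8 * permX 6 * permX 4 * permX 2) ^ (e : ℕ))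
          ((permX 3 * permX 2 * permX 4 * permX 3 * (permX 5 * permX 4 * permX 6 * permX 5)) k) =
        (permX 3 * permX 2 * permX 4 * permX 3 * (permX 5 * permX 4 * permX 6 * permX 5))
          ((permX 0 ^ (i : ℕ) * (permX 8 * permX 6 * permX 4 * permX 2) ^ (e : ℕ)) k)) ∧
      (∀ k, (permX 0 ^ (i : ℕ) * (permX 8 * permX 6 * permX 4 * permX 2) ^ (e : ℕ))
          ((permX 5 * permX 4 * permX 6 * permX 5 * (permX 7 * permX 6 * permX 8 * permX 7)) k) =
        (permX 5 * permX 4 * permX 6 * permX 5 * (permX 7 * permX 6 * permX 8 * permX 7))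
          ((permX 0 ^ (i : ℕ) * (permX 8 * permX 6 * permX 4 * permX 2) ^ (e : ℕ)) k)) by decide +kernel)
    exact h i e
  obtain ⟨ry, r0, r1, r2⟩ := hcr
  have step : ∀ (g : Equiv.Perm (Fin 11)), (∀ k, σ (g k) = g (σ k)) → (∀ k, r (g k) = g (r k)) →
      ∀ k l, g k = l → σ k = r k → σ l = r l := by
    rintro g hg hg' k _ rfl h
    rw [hg, hg', h]
  have e0 : σ 0 = r 0 := h0.symm
  have e3 : σ 3 = r 3 := h3.symm
  have e1 := step _ cy ry 0 1 (by decide +kernel) e0
  have e2 := step _ cy ry 1 2 (by decide +kernel) e1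
  have e4 := step _ c0 r0 3 4 (by decide +kernel) e3
  have e5 := step _ c1 r1 3 5 (by decide +kernel) e3
  have e6 := step _ c1 r1 4 6 (by decide +kernel) e4
  have e7 := step _ c1 r1 5 7 (by decide +kernel) e5
  have e8 := step _ c1 r1 6 8 (by decide +kernel) e6
  have e9 := step _ c2 r2 7 9 (by decide +kernel) e7
  have e10 := step _ c2 r2 8 10 (by decide +kernel) e8
  refine Equiv.ext fun k => ?_
  fin_cases k <;> assumption

/-- **Rigidity.** An element centralising `y` and `rigidList` lies in `⟨y⟩⟨τ, u₀⟩`. -/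
theorem rigid {c : ↥C11} (hy : c * xC 0 = xC 0 * c) (hT : ∀ x ∈ rigidList, c * x = x * c) :
    ∃ i : ℕ, ∃ v ∈ [1, tauC, u0C, tauC * u0C], c = v * xC 0 ^ i := by
  obtain ⟨p, hp, hpx⟩ := exists_perm
  have key : ∀ x : ↥C11, c * x = x * c → ∀ k, p c (p x k) = p x (p c k) := fun x h k => by
    rw [← Equiv.Perm.mul_apply, ← Equiv.Perm.mul_apply, ← map_mul, ← map_mul, h]
  have k0 := key (xC 0) hy
  have k1 := key _ (hT _ (List.mem_cons_self ..))
  have k2 := key _ (hT _ (List.mem_cons_of_mem _ (List.mem_cons_self ..)))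
  have k3 := key _ (hT _ (List.mem_cons_of_mem _ (List.mem_cons_of_mem _ (List.mem_cons_self ..))))
  simp only [map_mul, hpx] at k0 k1 k2 k3
  obtain ⟨i, e, he⟩ := perm_rigid (p c) _ _ _ rfl rfl rfl k0 k1 k2 k3
  have h : p (xC 0 ^ (i : ℕ) * u0C ^ (e : ℕ)) = p c := by
    simp only [he, map_mul, map_pow, u0C, hpx]
  have hk : c * (xC 0 ^ (i : ℕ) * u0C ^ (e : ℕ))⁻¹ ∈ ZC := by
    rw [← hp, MonoidHom.mem_ker, map_mul, map_inv, h, mul_inv_cancel]
  have hu : xC 0 ^ (i : ℕ) * u0C ^ (e : ℕ) = u0C ^ (e : ℕ) * xC 0 ^ (i : ℕ) :=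
    (commute_xC_zero_u0C.pow_pow _ _).eq
  refine ⟨i, ?_⟩
  rcases mem_ZC.1 hk with hz | hz
  · rw [mul_inv_eq_one] at hz
    rcases (show (e : ℕ) = 0 ∨ (e : ℕ) = 1 by omega) with h' | h'
    · exact ⟨1, by simp, by rw [hz, h', pow_zero, mul_one, one_mul]⟩
    · exact ⟨u0C, by simp, by rw [hz, hu, h', pow_one]⟩
  · rw [mul_inv_eq_iff_eq_mul] at hz
    rcases (show (e : ℕ) = 0 ∨ (e : ℕ) = 1 by omega) with h' | h'
    · exact ⟨tauC, by simp, by rw [hz, h', pow_zero, mul_one]⟩
    · exact ⟨tauC * u0C, by simp, by rw [hz, hu, h', pow_one, mul_assoc]⟩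

end CfsgLib.LyonsUnique
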