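import Cfsg.Agent.Lib.LyonsUnique.Defs
import Cfsg.Agent.Lib.Recognition.Carmichael
import Cfsg.Agent.S3335
import Mathlib.Data.Nat.Factorial.Basic

/-!
# Coordinates on the centraliser of the central involution

The homomorphism of the centraliser onto the alternating group of degree eleven is pinned: it sends the nine
elements `xc i` to `(0 1 2)` and `(0 1)(i+1 i+2)`, and its kernel is the centre.
-/

set_option autoImplicit false

noncomputable section

namespace CfsgLib.LyonsUnique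

open Cfsg CfsgLib.Presented CfsgLib.Presented.Ly

/-- The permutation of `Fin 11` under `xc i`. -/
def pg (i : ℕ) : Equiv.Perm (Fin 11) := Cfsg.Agent.S3335.gen 9 i

theorem pg_rels : CfsgLib.Carmichael.Rels pg 9 := Cfsg.Agent.S3335.rels_gen 9

theorem pg_gen : Subgroup.closure (pg '' {i | i < 9}) = alternatingGroup (Fin 11) :=
  le_antisymm ((Subgroup.closure_le _).2 fun _ ⟨_, hi, e⟩ =>
      e ▸ Equiv.Perm.mem_alternatingGroup.2 (Cfsg.Agent.S3335.sign_gen hi))
    (Cfsg.Agent.S3335.gen_generates 9)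

theorem xc_mem (i : ℕ) (hi : i < 9) : xc i ∈ CLy := Subgroup.mem_centralizer_singleton_iff.2 (tau_comm i hi)

/-- the classes of the nine elements -/
def xq (i : ℕ) : C11 ⧸ ZC := if h : i < 9 then (xC ⟨i, h⟩ : C11 ⧸ ZC) else 1

theorem xq_rels : CfsgLib.Carmichael.Rels xq 9 := by
  have e : ∀ i (h : i < 9), xq i = ((xC ⟨i, h⟩ : C11) : C11 ⧸ ZC) := fun i h => dif_pos h
  refine ⟨fun h => ?_, fun i h1 hi => ?_, fun i hi => ?_, fun i j hij hj => ?_⟩
  · rw [e 0 h, ← QuotientGroup.mk_pow]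
    refine (QuotientGroup.eq_one_iff _).2 (near_mem (Or.inl ?_))
    show (xc 0) ^ 3 = 1
    rw [pow_succ, pow_two, x0_cube]
  · rw [e i hi, ← QuotientGroup.mk_pow]
    refine (QuotientGroup.eq_one_iff _).2 (near_mem (Or.inr ?_))
    show (xc i) ^ 2 = tauLy
    rw [pow_two, x_sq h1 hi]
  · rw [e i (by omega), e (i + 1) hi, ← QuotientGroup.mk_mul, ← QuotientGroup.mk_pow]
    exact (QuotientGroup.eq_one_iff _).2 (near_mem (adj_near hi))
  · rw [e i (by omega), e j hj, ← QuotientGroup.mk_mul, ← QuotientGroup.mk_pow]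
    exact (QuotientGroup.eq_one_iff _).2 (near_mem (Or.inr (far_tau hij hj)))

theorem zc_cases {c : C11} (hc : c ∈ ZC) : (c : MLy) = 1 ∨ (c : MLy) = tauLy := by
  obtain ⟨k, rfl⟩ := Subgroup.mem_zpowers_iff.1 hc
  have h2 : tauC ^ (2 : ℤ) = 1 := Subtype.ext (by rw [zpow_two]; exact tau_sq)
  rcases Int.even_or_odd k with ⟨j, rfl⟩ | ⟨j, rfl⟩
  · left
    rw [← two_mul, zpow_mul, h2, one_zpow]
    rfl
  · right
    rw [zpow_add, zpow_mul, h2, one_zpow, one_mul, zpow_one]
    rfl

/-- The pairs (class, permutation). -/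
def pairQ (i : ℕ) : (C11 ⧸ ZC) × Equiv.Perm (Fin 11) := (xq i, pg i)

/-- Their subgroup. -/
def graphQ : Subgroup ((C11 ⧸ ZC) × Equiv.Perm (Fin 11)) := Subgroup.closure (pairQ '' {i | i < 9})

theorem card_graphQ_le : Finite graphQ ∧ Nat.card graphQ ≤ 19958400 := by
  let x : ℕ → graphQ := fun i => if h : i < 9 then ⟨pairQ i, Subgroup.subset_closure ⟨i, h, rfl⟩⟩ else 1
  have hx : ∀ i < 9, (x i).1 = pairQ i := fun i hi => by
    simp only [x, dif_pos hi]
  have hR : CfsgLib.Carmichael.Rels x 9 := by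
    refine ⟨fun h => ?_, fun i h1 hi => ?_, fun i hi => ?_, fun i j hij hj => ?_⟩ <;> apply Subtype.ext <;>
      simp only [SubmonoidClass.coe_pow, Subgroup.coe_mul, Subgroup.coe_one]
    · rw [hx 0 h, pairQ, Prod.pow_mk, xq_rels.cube h, pg_rels.cube h]; rfl
    · rw [hx i hi, pairQ, Prod.pow_mk, xq_rels.sq i h1 hi, pg_rels.sq i h1 hi]; rfl
    · rw [hx i (by omega), hx (i + 1) hi, pairQ, pairQ, Prod.mk_mul_mk, Prod.pow_mk, xq_rels.adj i hi,
        pg_rels.adj i hi]; rfl
    · rw [hx i (by omega), hx j hj, pairQ, pairQ, Prod.mk_mul_mk, Prod.pow_mk, xq_rels.far i j hij hj,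
        pg_rels.far i j hij hj]; rfl
  have hgen : Subgroup.closure (x '' {i | i < 9}) = ⊤ := by
    refine Eq.trans ?_ (Subgroup.closure_closure_coe_preimage (k := pairQ '' {i | i < 9}))
    congr 1
    ext z
    constructor
    · rintro ⟨i, hi, rfl⟩
      exact ⟨i, hi, (hx i hi).symm⟩
    · rintro ⟨i, hi, e⟩
      exact ⟨i, hi, Subtype.ext ((hx i hi).trans e)⟩
  obtain ⟨hf, hc⟩ := CfsgLib.Carmichael.finite_card_le 9 _ x hR hgen
  refine ⟨hf, ?_⟩
  have e : (9 + 2).factorial = 39916800 := by decide +kernel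
  omega

theorem exists_iso : ∃ e : (C11 ⧸ ZC) →* Equiv.Perm (Fin 11), Function.Injective e ∧ ∀ i < 9, e (xq i) = pg i := by
  haveI := finite_Ly
  obtain ⟨hfin, hle⟩ := card_graphQ_le
  haveI := hfin
  let p1 : graphQ →* C11 ⧸ ZC := (MonoidHom.fst _ _).comp graphQ.subtype
  let p2 : graphQ →* Equiv.Perm (Fin 11) := (MonoidHom.snd _ _).comp graphQ.subtype
  have hr2 : alternatingGroup (Fin 11) ≤ p2.range := by
    rw [← pg_gen, Subgroup.closure_le]
    rintro _ ⟨i, hi, rfl⟩
    exact ⟨⟨pairQ i, Subgroup.subset_closure ⟨i, hi, rfl⟩⟩, rfl⟩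
  have hge : 19958400 ≤ Nat.card p2.range := card_alt ▸ Subgroup.card_le_of_le hr2
  have hsur := Nat.card_le_card_of_surjective _ (MonoidHom.rangeRestrict_surjective p2)
  have hc : Nat.card graphQ = 19958400 := by omega
  have hinj2 : Function.Injective p2 := by
    have hb : Function.Bijective p2.rangeRestrict :=
      (Nat.bijective_iff_surjective_and_card _).2 ⟨MonoidHom.rangeRestrict_surjective p2, by omega⟩
    exact fun a b h => hb.1 (Subtype.ext h)
  obtain ⟨ea⟩ := exists_equiv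
  haveI : IsSimpleGroup (alternatingGroup (Fin 11)) := alternatingGroup.isSimpleGroup (by simp)
  let ga : alternatingGroup (Fin 11) →* C11 ⧸ ZC :=
    p1.comp ((MonoidHom.ofInjective hinj2).symm.toMonoidHom.comp (Subgroup.inclusion hr2))
  have hga : ∀ i (hi : i < 9) (h : pg i ∈ alternatingGroup (Fin 11)), ga ⟨pg i, h⟩ = xq i := by
    intro i hi h
    have e : (MonoidHom.ofInjective hinj2).symm (Subgroup.inclusion hr2 ⟨pg i, h⟩) =
        ⟨pairQ i, Subgroup.subset_closure ⟨i, hi, rfl⟩⟩ :=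
      hinj2 (MonoidHom.apply_ofInjective_symm hinj2 _)
    show p1 ((MonoidHom.ofInjective hinj2).symm (Subgroup.inclusion hr2 ⟨pg i, h⟩)) = xq i
    rw [e]
    rfl
  have hinj : Function.Injective ga := by
    rw [← MonoidHom.ker_eq_bot_iff]
    rcases (MonoidHom.normal_ker ga).eq_bot_or_eq_top with h | h
    · exact h
    · exfalso
      have h1 := hga 1 (by norm_num) (Equiv.Perm.mem_alternatingGroup.2 (Cfsg.Agent.S3335.sign_gen (by norm_num)))
      rw [ga.mem_ker.1 (h ▸ Subgroup.mem_top _)] at h1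
      have hm := (QuotientGroup.eq_one_iff _).1 ((show xq 1 = _ from dif_pos (by norm_num)) ▸ h1.symm)
      have hsq : xc 1 * xc 1 = 1 := by
        rcases zc_cases hm with h3 | h3 <;> rw [show xc 1 = _ from h3] <;> first | exact one_mul 1 | exact tau_sq
      rw [x_sq le_rfl (by norm_num)] at hsq
      exact tau_ne hsq
  have hb : Function.Bijective ga :=
    (Nat.bijective_iff_injective_and_card _).2 ⟨hinj, Nat.card_congr ea.toEquiv⟩
  refine ⟨(alternatingGroup (Fin 11)).subtype.comp (MulEquiv.ofBijective ga hb).symm.toMonoidHom,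
    fun a b h => (MulEquiv.ofBijective ga hb).symm.injective (Subtype.ext h), fun i hi => ?_⟩
  have hm : pg i ∈ alternatingGroup (Fin 11) :=
    Equiv.Perm.mem_alternatingGroup.2 (Cfsg.Agent.S3335.sign_gen hi)
  rw [← hga i hi hm]
  exact congrArg Subtype.val ((MulEquiv.ofBijective ga hb).symm_apply_apply ⟨pg i, hm⟩)

/-- Coordinates: a homomorphism with kernel `⟨τ⟩` pinned on the nine elements. -/
theorem exists_coord : ∃ φ : CLy →* Equiv.Perm (Fin 11),
    (∀ c : CLy, φ c = 1 ↔ (c : MLy) = 1 ∨ (c : MLy) = tauLy) ∧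
    (∀ i (hi : i < 9), φ ⟨xc i, xc_mem i hi⟩ = pg i) := by
  obtain ⟨e, he, hx⟩ := exists_iso
  let φ : C11 →* Equiv.Perm (Fin 11) := e.comp (QuotientGroup.mk' ZC)
  have h1 : ∀ c : C11, φ c = 1 ↔ (c : MLy) = 1 ∨ (c : MLy) = tauLy := by
    intro c
    show e (c : C11 ⧸ ZC) = 1 ↔ _
    rw [map_eq_one_iff e he, QuotientGroup.eq_one_iff]
    constructor
    · exact zc_cases
    · intro hc
      exact near_mem hc
  refine ⟨φ, h1, fun i hi => ?_⟩
  rw [← hx i hi, xq, dif_pos hi]
  rfl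

/-- The chosen coordinates. -/
def coord : CLy →* Equiv.Perm (Fin 11) := exists_coord.choose

theorem coord_eq_one (c : CLy) : coord c = 1 ↔ (c : MLy) = 1 ∨ (c : MLy) = tauLy := exists_coord.choose_spec.1 c

theorem coord_xc (i : ℕ) (hi : i < 9) : coord ⟨xc i, xc_mem i hi⟩ = pg i := exists_coord.choose_spec.2 i hi

theorem cx_mem {w : List ℕ} (h : ∀ i ∈ w, i < 9) : cx w ∈ CLy :=
  list_prod_mem fun x hx => by
    obtain ⟨i, hi, rfl⟩ := List.mem_map.1 hx
    exact xc_mem i (h i hi)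

theorem coord_cx (w : List ℕ) (h : ∀ i ∈ w, i < 9) : coord ⟨cx w, cx_mem h⟩ = (w.map pg).prod := by
  induction w with
  | nil => exact (congrArg coord (Subtype.ext rfl : (⟨cx [], _⟩ : CLy) = 1)).trans (map_one coord)
  | cons a w ih =>
    have ha := h a List.mem_cons_self
    have hw : ∀ i ∈ w, i < 9 := fun i hi => h i (List.mem_cons_of_mem _ hi)
    have e : (⟨cx (a :: w), cx_mem h⟩ : CLy) = ⟨xc a, xc_mem a ha⟩ * ⟨cx w, cx_mem hw⟩ := Subtype.ext rfl
    rw [e, map_mul, coord_xc a ha, ih hw, List.map_cons, List.prod_cons]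

/-- The centraliser is generated by the nine elements and its centre. -/
theorem coord_range : coord.range = alternatingGroup (Fin 11) := by
  refine le_antisymm ?_ ?_
  · haveI := finite_Ly
    have hsub : alternatingGroup (Fin 11) ≤ coord.range := by
      rw [← pg_gen, Subgroup.closure_le]
      rintro _ ⟨i, hi, rfl⟩
      exact ⟨_, coord_xc i hi⟩
    refine (Subgroup.eq_of_le_of_card_ge hsub ?_).ge
    obtain ⟨ea⟩ := exists_equiv
    rw [Nat.card_congr ea.toEquiv]
    have hk : ∀ c ∈ ZC, coord c = 1 := fun c hc => (coord_eq_one c).2 (zc_cases hc)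
    refine Nat.card_le_card_of_surjective (QuotientGroup.lift ZC coord.rangeRestrict fun c hc => Subtype.ext (hk c hc)) ?_
    intro y
    obtain ⟨c, hc⟩ := coord.rangeRestrict_surjective y
    exact ⟨QuotientGroup.mk (s := ZC) c, hc⟩
  · rw [← pg_gen, Subgroup.closure_le]
    rintro _ ⟨i, hi, rfl⟩
    exact ⟨_, coord_xc i hi⟩

end CfsgLib.LyonsUnique
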