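import Cfsg.Agent.Lib.Presented.Ly.Centralizer

/-!
# Uniqueness of the Lyons group: the elements of the model

`cx i` are the nine elements over the standard generators `(0 1 2)`, `(0 1)(i+1 i+2)` of the alternating group of
degree eleven, `tauLy` the central involution.  `y` is the element of order three over `(0 1 2)`, `K` the preimage
of the permutations of the eight other points (with a transposition of `0, 1` for the odd ones).
-/

set_option autoImplicit false

noncomputable section

namespace CfsgLib.LyonsUnique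

open Cfsg CfsgLib.Presented CfsgLib.Presented.Ly

/-- The model. -/
abbrev MLy : Type := Cfsg.Spor.Ly

/-- A product of the nine elements. -/
def cx (w : List ℕ) : MLy := (w.map xc).prod

/-- The centraliser of the central involution. -/
def CLy : Subgroup MLy := Subgroup.centralizer ({tauLy} : Set MLy)

/-- The element over `(0 1 2)`. -/
def yLy : MLy := xc 0

/-- The normaliser of its subgroup. -/
def NLy : Subgroup MLy := Subgroup.normalizer (Subgroup.zpowers yLy : Set MLy)

/-- The complement of `⟨y⟩` in the intersection of `CLy` and `NLy`. -/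
def KLy : Subgroup MLy := Subgroup.closure {x | ∃ i, 2 ≤ i ∧ i ≤ 8 ∧ xc i = x}

/-- An involution over `(3 4)(5 6)(7 8)(9 10)`. -/
def u0Ly : MLy := cx [8, 6, 4, 2]

/-- An involution over `(0 1)(3 4)(6 7)(8 9)`: it inverts `y`. -/
def uLy : MLy := cx [7, 5, 2]

/-- An involution exchanging the points `0, 1, 2` with `3, 4, 5` and commuting with `uLy`. -/
def aLy : MLy := cx [5, 1, 2, 0, 3, 1, 0, 2, 1]

/-- The element over the image of `(0 1 2)` under `aLy`. -/
def yLy' : MLy := aLy * yLy * aLy⁻¹

/-- An auxiliary conjugate of the central involution. -/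
def twLy : MLy :=
  evW evL [6, 8, 5, 10, 4, 4, 4, 0, 8, 11, 11, 2] * tauLy * (evW evL [6, 8, 5, 10, 4, 4, 4, 0, 8, 11, 11, 2])⁻¹

/-- An element of order three centralising `y` and cycling `tauLy`, `u0Ly`, `tauLy * u0Ly`. -/
def gLy : MLy := (u0Ly * twLy) ^ 11 * (twLy * tauLy) ^ 19 * cx [7, 4, 5, 6, 1, 2, 3, 4, 5, 4, 1, 2, 3, 0, 1, 2, 1, 0]

/-- Powers of products of two conjugates of `uLy`. -/
def cu (n : MLy) : MLy := n * uLy * n⁻¹ * uLy

/-- Elements centralising `uLy`. -/
def cu1Ly : MLy := (cx [4, 2, 5, 7, 7, 0, 4])⁻¹ * cu (cx [4, 2, 5, 7, 7, 0, 4]) ^ 2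

/-- Elements centralising `uLy`. -/
def cu6Ly : MLy := (xc 0 * xc 3 * gLy * xc 2 * gLy)⁻¹ * cu (xc 0 * xc 3 * gLy * xc 2 * gLy) ^ 2

/-- Elements centralising `uLy`. -/
def cu8Ly : MLy := cu (xc 6 * gLy * xc 4) ^ 6

/-- First element of order three of `C(y) ⊓ C(y') ⊓ C(u)` inverted by the central involution. -/
def w1Ly : MLy := (cu1Ly * cu8Ly) ^ 2

/-- Second element of order three of `C(y) ⊓ C(y') ⊓ C(u)` inverted by the central involution. -/
def w2Ly : MLy := (cu6Ly * cu8Ly) ^ 2

end CfsgLib.LyonsUnique
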