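import Mathlib

/-!
The edge lift for the completion of a point stabiliser and a vertex stabiliser: two homomorphisms `θ` and `f`
that agree on `K`, and up to inversion on `y`, agree on `y` and send `a * w * a⁻¹` to the conjugate of `f w` for
the edge element `a`.

The involution `u` is carried to `τ` by `g⁻¹ * c⁻¹`, which gives a second identification of its centraliser with
that of the image.  If `f` inverted `y` the identifications would differ on the part inside the centraliser of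
`τ` by the outer automorphism `P` and a flip of `b` by `u`, which the rigidity excludes; so they agree there,
and the rigidity gives the lift.
-/

set_option autoImplicit false

namespace CfsgLib.LyonsUnique

open Subgroup

variable {M G : Type*} [Group M] [Group G]

/-- The model facts behind the edge lift: `K` is the part of the centraliser of `τ` on which the two maps agree,
`S` the elements fixed by the rigidity statement, `P` the outer automorphism. -/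
structure EdgeData (N K : Subgroup M) (τ y u a c g b : M)
    (P : ↥(centralizer ({τ} : Set M)) →* ↥(centralizer ({τ} : Set M))) (S W : Set M) : Prop where
  u_mem : u ∈ centralizer ({τ} : Set M)
  a_mem : a ∈ centralizer ({τ} : Set M)
  a_comm : a * u = u * a
  c_mem : c ∈ centralizer ({τ} : Set M)
  g_mem : g ∈ N
  g_y : g * y = y * g
  y_mem : y ∈ centralizer ({τ} : Set M)
  y_memN : y ∈ N
  K_le : K ≤ centralizer ({τ} : Set M) ⊓ N
  u_K : u ∈ K
  u_back : c⁻¹ * u * c ∈ K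
  τ_K : τ ∈ K
  τ_ne : τ ≠ 1
  conj_u : c * (g * τ * g⁻¹) * c⁻¹ = u
  P_inj : Function.Injective P
  τ_S : τ ∈ S
  b_S : b ∈ S
  S_comm : ∀ s ∈ S, s * u = u * s
  S_K : ∀ s ∈ S, s ∈ K
  S_twist : ∀ s ∈ S, ∃ i n : ℤ, ∃ k ∈ K, ∃ k' ∈ K, c⁻¹ * s * c = y ^ i * k ∧ (c * g)⁻¹ * s * (c * g) = y ^ n * k' ∧
    ∀ h : y ^ (2 * i - n) * k' ∈ centralizer ({τ} : Set M),
      ((P ⟨_, h⟩ : M) = y ^ n * k' ∧ s ≠ b) ∨ ((P ⟨_, h⟩ : M) = y ^ n * k' * τ ∧ s ≠ τ)
  a_twist : ∃ i n : ℤ, ∃ k ∈ K, ∃ k' ∈ K, c⁻¹ * a * c = y ^ i * k ∧ (c * g)⁻¹ * a * (c * g) = y ^ n * k'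
  W_comm : ∀ w ∈ W, w * u = u * w
  W_mem : ∀ w ∈ W, w ∈ N

/-- An injective homomorphism of the vertex part of the centraliser of `u` into that centraliser, fixing `τ`
and fixing the elements of `S` modulo `u`, fixes `b`, and, if it fixes `S`, is conjugation by a power of `τ` on
`W`. -/
def EdgeRigid (N : Subgroup M) (τ u : M) (S W : Set M) (b : M) : Prop :=
  ∀ ν : ↥(centralizer ({u} : Set M) ⊓ N) →* ↥(centralizer ({u} : Set M)), Function.Injective ν →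
    (∀ x : ↥(centralizer ({u} : Set M) ⊓ N), (x : M) ∈ S → (ν x : M) = x ∨ (ν x : M) = x * u) →
    (∀ x : ↥(centralizer ({u} : Set M) ⊓ N), (x : M) = τ → (ν x : M) = τ) →
    (∀ x : ↥(centralizer ({u} : Set M) ⊓ N), (x : M) = b → (ν x : M) = b) ∧
    ((∀ x : ↥(centralizer ({u} : Set M) ⊓ N), (x : M) ∈ S → (ν x : M) = x) →
      ∃ e : M, (e = 1 ∨ e = τ) ∧
        ∀ x : ↥(centralizer ({u} : Set M) ⊓ N), (x : M) ∈ W → (ν x : M) = e * x * e⁻¹)

/-- Membership in the centraliser of one element. -/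
theorem mem_cent_iff {x z : M} : x ∈ centralizer ({z} : Set M) ↔ x * z = z * x :=
  Subgroup.mem_centralizer_singleton_iff

/-- The edge lifts, and the sign on `y` is positive. -/
theorem edge_lift {N K : Subgroup M} {τ y u a c g b : M}
    {P : ↥(centralizer ({τ} : Set M)) →* ↥(centralizer ({τ} : Set M))} {S W : Set M}
    (hM : EdgeData N K τ y u a c g b P S W)
    (hrigid : EdgeRigid N τ u S W b) (θ : ↥(centralizer ({τ} : Set M)) →* G) (f : ↥N →* G)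
    (hθ : Function.Injective θ) (hf : Function.Injective f)
    (hrange : ∀ (hτ : τ ∈ centralizer ({τ} : Set M)) (z : G), z * θ ⟨τ, hτ⟩ = θ ⟨τ, hτ⟩ * z → ∃ x, θ x = z)
    (agree : ∀ x ∈ K, ∀ (h : x ∈ centralizer ({τ} : Set M)) (h' : x ∈ N), θ ⟨x, h⟩ = f ⟨x, h'⟩)
    (hy : θ ⟨y, hM.y_mem⟩ = f ⟨y, hM.y_memN⟩ ∨ θ ⟨y, hM.y_mem⟩ = (f ⟨y, hM.y_memN⟩)⁻¹) :
    θ ⟨y, hM.y_mem⟩ = f ⟨y, hM.y_memN⟩ ∧
    ∀ (w : M) (hw : w ∈ W) (hw' : a * w * a⁻¹ ∈ W), f ⟨a * w * a⁻¹, hM.W_mem _ hw'⟩ =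
      θ ⟨a, hM.a_mem⟩ * f ⟨w, hM.W_mem w hw⟩ * (θ ⟨a, hM.a_mem⟩)⁻¹ := by
  classical
  have hτ : τ ∈ centralizer ({τ} : Set M) := mem_cent_iff.2 rfl
  have hc := hM.c_mem
  have hg := hM.g_mem
  have hKC : ∀ {k : M}, k ∈ K → k ∈ centralizer ({τ} : Set M) := fun hk => (hM.K_le hk).1
  have hKN : ∀ {k : M}, k ∈ K → k ∈ N := fun hk => (hM.K_le hk).2
  -- conjugation from the centraliser of `u` into that of `τ`
  have hu' : (c * g)⁻¹ * u * (c * g) = τ := by rw [← hM.conj_u]; group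
  have hback : ∀ {x : M}, x ∈ centralizer ({u} : Set M) → (c * g)⁻¹ * x * (c * g) ∈ centralizer ({τ} : Set M) := by
    intro x hx
    refine mem_cent_iff.2 ?_
    rw [← hu']
    calc (c * g)⁻¹ * x * (c * g) * ((c * g)⁻¹ * u * (c * g)) = (c * g)⁻¹ * (x * u) * (c * g) := by group
      _ = (c * g)⁻¹ * (u * x) * (c * g) := by rw [mem_cent_iff.1 hx]
      _ = _ := by group
  have hforth : ∀ {x : M}, x ∈ centralizer ({τ} : Set M) → c * g * x * (c * g)⁻¹ ∈ centralizer ({u} : Set M) := by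
    intro x hx
    refine mem_cent_iff.2 ?_
    have e : u = c * g * τ * (c * g)⁻¹ := by rw [← hu']; group
    rw [e]
    calc c * g * x * (c * g)⁻¹ * (c * g * τ * (c * g)⁻¹) = c * g * (x * τ) * (c * g)⁻¹ := by group
      _ = c * g * (τ * x) * (c * g)⁻¹ := by rw [mem_cent_iff.1 hx]
      _ = _ := by group
  let κ : ↥(centralizer ({u} : Set M)) →* ↥(centralizer ({τ} : Set M)) :=
    MonoidHom.mk' (fun x => ⟨(c * g)⁻¹ * (x : M) * (c * g), hback x.2⟩) fun x y => Subtype.ext (by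
      show (c * g)⁻¹ * ((x : M) * y) * (c * g) = (c * g)⁻¹ * (x : M) * (c * g) * ((c * g)⁻¹ * (y : M) * (c * g))
      group)
  let κ' : ↥(centralizer ({τ} : Set M)) →* ↥(centralizer ({u} : Set M)) :=
    MonoidHom.mk' (fun x => ⟨c * g * (x : M) * (c * g)⁻¹, hforth x.2⟩) fun x y => Subtype.ext (by
      show c * g * ((x : M) * y) * (c * g)⁻¹ = c * g * (x : M) * (c * g)⁻¹ * (c * g * (y : M) * (c * g)⁻¹)
      group)
  have hκκ' : ∀ x, κ (κ' x) = x := fun x => Subtype.ext (by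
    show (c * g)⁻¹ * (c * g * (x : M) * (c * g)⁻¹) * (c * g) = x
    group)
  let e0 : G := θ ⟨c, hc⟩ * f ⟨g, hg⟩
  let Θ : ↥(centralizer ({u} : Set M)) →* G := ((MulAut.conj e0).toMonoidHom.comp θ).comp κ
  have hΘ : ∀ x, Θ x = e0 * θ (κ x) * e0⁻¹ := fun x => rfl
  have hκinj : Function.Injective κ := by
    intro x y h
    have h := congrArg Subtype.val h
    simp only [κ, MonoidHom.mk'_apply, mul_left_inj, mul_right_inj] at h
    exact Subtype.ext h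
  have hΘinj : Function.Injective Θ := by
    intro x y hxy
    rw [hΘ, hΘ, mul_left_inj, mul_right_inj] at hxy
    exact hκinj (hθ hxy)
  -- the transported map agrees with `θ`, given the images of the powers of `y`
  let Y : ↥(centralizer ({τ} : Set M)) := ⟨y, hM.y_mem⟩
  let Yn : ↥N := ⟨y, hM.y_memN⟩
  have hagree : ∀ (z x : M) (hz : z ∈ centralizer ({u} : Set M)) (hx : x ∈ centralizer ({τ} : Set M)) (i n p : ℤ)
      (k k' : M), k ∈ K → ∀ hk' : k' ∈ K, c⁻¹ * x * c = y ^ i * k → (c * g)⁻¹ * x * (c * g) = y ^ n * k' →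
      (κ ⟨z, hz⟩ : M) = y ^ p * k' → (∃ q : ℤ, θ Y ^ p = f Yn ^ q ∧ f Yn ^ (q - n + i) = θ Y ^ i) →
      Θ ⟨z, hz⟩ = θ ⟨x, hx⟩ := by
    intro z x hz hx i n p k k' hk hk' hi hn hp ⟨q, hq1, hq2⟩
    have hκ : κ ⟨z, hz⟩ = Y ^ p * ⟨k', hKC hk'⟩ := Subtype.ext (by
      rw [hp]; simp [Y])
    have hx' : (⟨x, hx⟩ : ↥(centralizer ({τ} : Set M))) = ⟨c, hc⟩ * (Y ^ i * ⟨k, hKC hk⟩) * ⟨c, hc⟩⁻¹ :=
      Subtype.ext (by
        simp only [Y, Subgroup.coe_mul, Subgroup.coe_inv, SubgroupClass.coe_zpow]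
        rw [← hi]
        group)
    have hgy : ∀ m : ℤ, g * y ^ m = y ^ m * g := fun m => ((show Commute g y from hM.g_y).zpow_right m).eq
    have hmove : (⟨g, hg⟩ : ↥N) * (Yn ^ q * ⟨k', hKN hk'⟩) * ⟨g, hg⟩⁻¹ = Yn ^ (q - n + i) * ⟨k, hKN hk⟩ :=
      Subtype.ext (by
        simp only [Yn, Subgroup.coe_mul, Subgroup.coe_inv, SubgroupClass.coe_zpow]
        calc g * (y ^ q * k') * g⁻¹ = g * y ^ (q - n) * (y ^ n * k') * g⁻¹ := by group
          _ = y ^ (q - n) * g * ((c * g)⁻¹ * x * (c * g)) * g⁻¹ := by rw [hgy, hn]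
          _ = y ^ (q - n) * (c⁻¹ * x * c) := by group
          _ = _ := by rw [hi]; group)
    have h := congrArg f hmove
    rw [map_mul, map_mul, map_mul, map_mul, map_inv, map_zpow, map_zpow, hq2, ← hq1,
      ← agree k hk (hKC hk) (hKN hk), ← agree k' hk' (hKC hk') (hKN hk')] at h
    rw [hΘ, hκ, hx', map_mul, map_mul, map_mul, map_mul, map_inv, map_zpow, map_zpow, ← h]
    simp only [e0]
    group
  -- the image of the transported map is the centraliser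
  have huC : u ∈ centralizer ({u} : Set M) := mem_cent_iff.2 rfl
  have hκu : κ ⟨u, huC⟩ = ⟨τ, hτ⟩ := Subtype.ext hu'
  have hfu : Θ ⟨u, huC⟩ = f ⟨u, hKN hM.u_K⟩ := by
    rw [← agree u hM.u_K hM.u_mem (hKN hM.u_K)]
    exact hagree u u huC hM.u_mem 0 0 0 _ τ hM.u_back hM.τ_K (by simp) (by simpa using hu')
      (by rw [hκu]; simp) ⟨0, by simp, by simp⟩
  have hΘrange : ∀ z : G, z * Θ ⟨u, huC⟩ = Θ ⟨u, huC⟩ * z → ∃ x, Θ x = z := by
    intro z hz
    rw [hΘ, hκu] at hz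
    obtain ⟨y, hy⟩ := hrange hτ (e0⁻¹ * z * e0) (by
      calc e0⁻¹ * z * e0 * θ ⟨τ, hτ⟩ = e0⁻¹ * (z * (e0 * θ ⟨τ, hτ⟩ * e0⁻¹)) * e0 := by group
        _ = e0⁻¹ * (e0 * θ ⟨τ, hτ⟩ * e0⁻¹ * z) * e0 := by rw [hz]
        _ = _ := by group)
    refine ⟨κ' y, ?_⟩
    rw [hΘ, hκκ', hy]
    group
  -- pull `f` back
  let H : Subgroup M := centralizer ({u} : Set M) ⊓ N
  let fH : ↥H →* G := f.comp (Subgroup.inclusion (show H ≤ N from inf_le_right))
  have hfH : ∀ (x : ↥H), fH x = f ⟨x, x.2.2⟩ := fun x => rfl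
  have hmem : ∀ x : ↥H, fH x ∈ Θ.range := fun x => by
    obtain ⟨y, hy⟩ := hΘrange (fH x) (by
      rw [hfu, hfH, ← map_mul, ← map_mul]
      exact congrArg f (Subtype.ext (mem_cent_iff.1 x.2.1)))
    exact ⟨y, hy⟩
  let ν : ↥H →* ↥(centralizer ({u} : Set M)) :=
    (MonoidHom.ofInjective hΘinj).symm.toMonoidHom.comp (fH.codRestrict Θ.range hmem)
  have hν : ∀ x, Θ (ν x) = f ⟨x, x.2.2⟩ := fun x =>
    MonoidHom.apply_ofInjective_symm hΘinj ⟨fH x, hmem x⟩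
  have hνinj : Function.Injective ν := fun x y hxy => by
    have h := congrArg Θ hxy
    rw [hν, hν] at h
    exact Subtype.ext (congrArg (Subtype.val : ↥N → M) (hf h))
  have hνS : ∀ (x : ↥H) (hx : (x : M) ∈ S), Θ (ν x) = θ ⟨x, hKC (hM.S_K _ hx)⟩ := fun x hx => by
    rw [hν, agree _ (hM.S_K _ hx) (hKC (hM.S_K _ hx)) x.2.2]
  have hsign : θ Y = f Yn := by
    rcases hy with h | h
    · exact h
    exfalso
    let ρν : ↥H →* ↥(centralizer ({u} : Set M)) := ((κ'.comp P).comp κ).comp ν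
    have hρinj : Function.Injective ρν := fun x y hxy => by
      have h := congrArg κ hxy
      change κ (κ' (P (κ (ν x)))) = κ (κ' (P (κ (ν y)))) at h
      rw [hκκ', hκκ'] at h
      exact hνinj (hκinj (hM.P_inj h))
    have hval : ∀ x : ↥H, (x : M) ∈ S →
        ((ρν x : M) = x ∧ (x : M) ≠ b) ∨ ((ρν x : M) = x * u ∧ (x : M) ≠ τ) := by
      intro x hx
      obtain ⟨i, n, k, hk, k', hk', hi, hn, hP⟩ := hM.S_twist _ hx
      have hmemC : y ^ (2 * i - n) * k' ∈ centralizer ({τ} : Set M) :=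
        mul_mem (zpow_mem hM.y_mem _) (hKC hk')
      have hz : ν x = κ' ⟨_, hmemC⟩ := hΘinj (by
        rw [hνS x hx]
        refine (hagree _ (x : M) (κ' ⟨_, hmemC⟩).2 _ i n (2 * i - n) k k' hk hk' hi hn ?_
          ⟨-(2 * i - n), ?_, ?_⟩).symm
        · exact congrArg Subtype.val (hκκ' ⟨_, hmemC⟩)
        · rw [h, inv_zpow']
        · rw [h, inv_zpow']; congr 1; ring)
      have hρ : (ρν x : M) = c * g * (P ⟨_, hmemC⟩ : M) * (c * g)⁻¹ := by
        show (κ' (P (κ (ν x))) : M) = _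
        rw [hz, hκκ']
        rfl
      have hx0 : c * g * (y ^ n * k') * (c * g)⁻¹ = x := by rw [← hn]; group
      rcases hP hmemC with ⟨hP, hne⟩ | ⟨hP, hne⟩
      · exact Or.inl ⟨by rw [hρ, hP, hx0], hne⟩
      · refine Or.inr ⟨?_, hne⟩
        rw [hρ, hP, show u = c * g * τ * (c * g)⁻¹ by rw [← hu']; group]
        conv_rhs => rw [← hx0]
        group
    have hbH : b ∈ H := ⟨mem_cent_iff.2 (hM.S_comm b hM.b_S), hKN (hM.S_K b hM.b_S)⟩
    have h1 := (hrigid ρν hρinj (fun x hx => (hval x hx).imp And.left And.left) fun x hx => by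
      rcases hval x (hx ▸ hM.τ_S) with ⟨h, -⟩ | ⟨-, h⟩
      · rw [h, hx]
      · exact absurd hx h).1 ⟨b, hbH⟩ rfl
    rcases hval ⟨b, hbH⟩ hM.b_S with ⟨-, h⟩ | ⟨h, -⟩
    · exact h rfl
    · rw [h1] at h
      have hu1 : u = 1 := by
        have := congrArg (b⁻¹ * ·) h
        simpa using this.symm
      exact hM.τ_ne (by rw [← hu', hu1]; group)
  refine ⟨hsign, fun w hw hw' => ?_⟩
  have hq : ∀ i n : ℤ, ∃ q : ℤ, θ Y ^ n = f Yn ^ q ∧ f Yn ^ (q - n + i) = θ Y ^ i := fun i n =>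
    ⟨n, by rw [hsign], by rw [hsign, sub_self, zero_add]⟩
  have hνfix : ∀ x : ↥H, (x : M) ∈ S → (ν x : M) = x := fun x hx => by
    obtain ⟨i, n, k, hk, k', hk', hi, hn, -⟩ := hM.S_twist _ hx
    have h : Θ ⟨x, x.2.1⟩ = θ ⟨x, hKC (hM.S_K _ hx)⟩ :=
      hagree _ _ x.2.1 _ i n n k k' hk hk' hi hn hn (hq i n)
    exact congrArg Subtype.val (hΘinj ((hνS x hx).trans h.symm))
  obtain ⟨e, he, heW⟩ := (hrigid ν hνinj (fun x hx => Or.inl (hνfix x hx))
    fun x hx => by rw [hνfix x (hx ▸ hM.τ_S), hx]).2 hνfix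
  -- conclude
  have hwH : w ∈ H := ⟨mem_cent_iff.2 (hM.W_comm w hw), hM.W_mem w hw⟩
  have hawH : a * w * a⁻¹ ∈ H := ⟨mem_cent_iff.2 (hM.W_comm _ hw'), hM.W_mem _ hw'⟩
  have haU : a ∈ centralizer ({u} : Set M) := mem_cent_iff.2 hM.a_comm
  have hΘa : Θ ⟨a, haU⟩ = θ ⟨a, hM.a_mem⟩ := by
    obtain ⟨i, n, k, hk, k', hk', hi, hn⟩ := hM.a_twist
    exact hagree _ _ haU _ i n n k k' hk hk' hi hn hn (hq i n)
  rw [← hν ⟨_, hawH⟩, ← hν ⟨w, hwH⟩, ← hΘa, ← map_inv Θ, ← map_mul, ← map_mul]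
  refine congrArg Θ (Subtype.ext ?_)
  show (ν ⟨_, hawH⟩ : M) = a * (ν ⟨w, hwH⟩ : M) * a⁻¹
  rw [heW ⟨_, hawH⟩ hw', heW ⟨w, hwH⟩ hw]
  rcases he with rfl | rfl
  · simp
  · have hcomm : a * e = e * a := mem_cent_iff.1 hM.a_mem
    calc e * (a * w * a⁻¹) * e⁻¹ = e * a * w * (e * a)⁻¹ := by group
      _ = a * e * w * (a * e)⁻¹ := by rw [hcomm]
      _ = _ := by group

end CfsgLib.LyonsUnique
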