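import Cfsg.Agent.Lib.LyonsUnique.Main
import Cfsg.Agent.Lib.Presented.Ly.Model
import Cfsg.Prelude.Def_Sporadic

/-!
# Uniqueness of the Lyons group: consequences for the statements
-/

set_option autoImplicit false

noncomputable section

universe u v

namespace CfsgLib.LyonsUnique

open Cfsg CfsgLib.Presented CfsgLib.Presented.Ly

/-- The hypotheses hold in the model. -/
theorem hyp_model : Hyp (tauLy : MLy) := ⟨Ly.simple, finite_Ly, orderOf_tauLy, double_cover⟩

variable {G : Type u} [Group G]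

theorem isLy_of_equiv (e : G ≃* MLy) : Cfsg.IsLy G := by
  haveI := Ly.simple
  exact ⟨e.isSimpleGroup, by rw [Nat.card_congr e.toEquiv, card_Ly]⟩

theorem exists_g2_of_equiv (e : G ≃* MLy) : ∃ (H : Subgroup G) (K : Type) (_ : Field K) (_ : Fintype K),
    Fintype.card K = 5 ∧ Nonempty (H ≃* Cfsg.Lie.chevG2.group K) := by
  haveI : Fact (Nat.Prime 5) := ⟨by norm_num⟩
  refine ⟨toLy.range.map e.symm.toMonoidHom, ZMod 5, inferInstance, inferInstance, ZMod.card 5, ⟨?_⟩⟩
  exact ((Subgroup.equivMapOfInjective _ e.symm.toMonoidHom e.symm.injective).symm.trans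
    (MonoidHom.ofInjective toLy_injective).symm).trans h5Equiv

theorem equiv_of_two {H : Type v} [Group H] (e : Nonempty (G ≃* MLy)) (e' : Nonempty (H ≃* MLy)) :
    Nonempty (G ≃* H) :=
  let ⟨a⟩ := e; let ⟨b⟩ := e'; ⟨a.trans b.symm⟩

end CfsgLib.LyonsUnique
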