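import Cfsg.Agent.Lib.LyonsUnique.Defs

/-!
# Uniqueness of the Lyons group: what the pieces prove and hand over

`G` is a finite simple group with an involution `t` whose centraliser is a non-split double cover of the
alternating group of degree eleven (`Hyp`); `θ` identifies the centraliser of the model with that one.
-/

set_option autoImplicit false

noncomputable section

universe u

namespace CfsgLib.LyonsUnique

open Cfsg CfsgLib.Presented CfsgLib.Presented.Ly

variable {G : Type u} [Group G]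

/-- The hypotheses. -/
structure Hyp (t : G) : Prop where
  simple : IsSimpleGroup G
  finite : Finite G
  order : orderOf t = 2
  cover : Cfsg.IsNonsplitDoubleCover (Subgroup.centralizer ({t} : Set G)) (alternatingGroup (Fin 11))

/-- An identification of the centralisers. -/
structure Theta (t : G) where
  /-- The map. -/
  hom : CLy →* G
  inj : Function.Injective hom
  range_eq : hom.range = Subgroup.centralizer ({t} : Set G)
  tau : ∀ h : tauLy ∈ CLy, hom ⟨tauLy, h⟩ = t

/-- The graph of the identification. -/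
def Theta.pairs {t : G} (θ : Theta t) : Subgroup (G × MLy) := (θ.hom.prod CLy.subtype).range

/-- The central quotient data at `y` (piece A2a): a subgroup of the product over an isomorphism of
`C(y)/⟨y⟩` with `C(y)/⟨y⟩`. -/
structure QuotPair {t : G} (θ : Theta t) (R : Subgroup (G × MLy)) : Prop where
  fst_eq : ∀ h : yLy ∈ CLy, R.map (MonoidHom.fst G MLy) = Subgroup.centralizer ({θ.hom ⟨yLy, h⟩} : Set G)
  snd_eq : R.map (MonoidHom.snd G MLy) = Subgroup.centralizer ({yLy} : Set MLy)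
  fst_ker : ∀ x : G, ((x, 1) : G × MLy) ∈ R ↔ ∃ h : yLy ∈ CLy, x ∈ Subgroup.zpowers (θ.hom ⟨yLy, h⟩)
  snd_ker : ∀ x : MLy, ((1, x) : G × MLy) ∈ R ↔ x ∈ Subgroup.zpowers yLy
  mem : ∀ c : CLy, (c : MLy) ∈ Subgroup.centralizer ({yLy} : Set MLy) → (θ.hom c, (c : MLy)) ∈ R

/-- The pair group at `N(⟨y⟩)` (piece A2b). -/
structure NPair {t : G} (θ : Theta t) (DN : Subgroup (G × MLy)) : Prop where
  snd_eq : DN.map (MonoidHom.snd G MLy) = NLy
  inj_snd : ∀ d ∈ DN, d.2 = 1 → d = 1
  inj_fst : ∀ d ∈ DN, d.1 = 1 → d = 1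
  mem : ∀ c : CLy, (c : MLy) ∈ KLy → (θ.hom c, (c : MLy)) ∈ DN
  mem_y : ∀ h : yLy ∈ CLy, (θ.hom ⟨yLy, h⟩, yLy) ∈ DN ∨ ((θ.hom ⟨yLy, h⟩)⁻¹, yLy) ∈ DN

/-- The lift of the edge (piece A3b). -/
structure EdgeLift {t : G} (θ : Theta t) (DN : Subgroup (G × MLy)) : Prop where
  mem_y : ∀ h : yLy ∈ CLy, (θ.hom ⟨yLy, h⟩, yLy) ∈ DN
  lift : ∀ h : aLy ∈ CLy, ∀ d ∈ DN, d.2 = w1Ly ∨ d.2 = w2Ly →
    ((θ.hom ⟨aLy, h⟩, aLy) : G × MLy) * d * ((θ.hom ⟨aLy, h⟩, aLy) : G × MLy)⁻¹ ∈ DN

/-- Piece A1: the identification exists. -/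
def ThetaExists : Prop := ∀ {G : Type u} [Group G] {t : G}, Hyp t → Nonempty (Theta t)

/-- Piece A1: one class of involutions. -/
def OneClass : Prop := ∀ {G : Type u} [Group G] {t : G}, Hyp t → ∀ v : G, orderOf v = 2 → IsConj t v

/-- Piece A1: an element cycling a four group of the centraliser, for any of its involutions. -/
def Cycler : Prop := ∀ {G : Type u} [Group G] {t : G}, Hyp t → ∀ v ∈ Subgroup.centralizer ({t} : Set G),
  orderOf v = 2 → v ≠ t → ∃ g : G, g * t * g⁻¹ = v ∧ g * v * g⁻¹ = t * v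

/-- Piece A1: a subgroup properly containing the centraliser is everything. -/
def TopOfCent : Prop := ∀ {G : Type u} [Group G] {t : G}, Hyp t → ∀ H : Subgroup G,
  Subgroup.centralizer ({t} : Set G) ≤ H → ∀ g ∈ H, g ∉ Subgroup.centralizer ({t} : Set G) → H = ⊤

/-- Piece A2a. -/
def QuotExists : Prop := ∀ {G : Type u} [Group G] {t : G}, Hyp t → ∀ θ : Theta t,
  ∃ R : Subgroup (G × MLy), QuotPair θ R

/-- Piece A2b: for the identification or for its composite with the outer automorphism. -/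
def NPairExists : Prop := ∀ {G : Type u} [Group G] {t : G}, Hyp t → ∀ θ : Theta t,
  ∀ R : Subgroup (G × MLy), QuotPair θ R → ∃ (θ' : Theta t) (DN : Subgroup (G × MLy)), NPair θ' DN

/-- Piece A3b. -/
def EdgeLifts : Prop := ∀ {G : Type u} [Group G] {t : G}, Hyp t → ∀ θ : Theta t,
  ∀ DN : Subgroup (G × MLy), NPair θ DN → EdgeLift θ DN

/-- Piece B: a completion of the two subgroups with unique edge lift maps injectively to the model. -/
def CompletionInjective : Prop := Nat.card NLy ≤ 6 * 898128000 → ∀ {D : Type u} [Group D] (π : D →* MLy) (DN DC : Subgroup D),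
  DN.map π = NLy → DC.map π = CLy → Set.InjOn π DN → Set.InjOn π DC →
  NLy ⊓ CLy ≤ (DN ⊓ DC).map π → DN ⊔ DC = ⊤ →
  (∀ w, w ∈ DC → π w = aLy → ∀ d ∈ DN, π d = w1Ly ∨ π d = w2Ly → w * d * w⁻¹ ∈ DN) → Function.Injective π

end CfsgLib.LyonsUnique
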