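import Cfsg.Agent.Lib.SchurCover.FibreIso

/-!
The lift of the isomorphism of quotients to the normalisers of the subgroup of order 3 (piece A2b).

`y` has order 3 and commutes with the involution `τ`; `R` is a fibre product of the centralisers of `θ y` and `y`
over an isomorphism of the quotients by the groups of order 3, compatible with `θ`.  The centralisers are perfect,
so the fibre product contains the graph of an isomorphism; it extends to the normalisers after possibly composing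
`θ` with the automorphism that multiplies the elements inverting `y` by `τ`.
-/

set_option autoImplicit false

namespace CfsgLib.LyonsUnique

open Subgroup
open scoped commutatorElement

universe u v w

variable {G : Type u} {M : Type v} {Q : Type w} [Group G] [Group M] [Group Q]

/-- The facts on the model used by the lift. -/
structure LiftModel (τ y y' u u₀ a g : M) (S : Set M) : Prop where
  tau_sq : τ * τ = 1
  y_cube : y ^ 3 = 1
  y_ne : y ≠ 1
  y_comm : y * τ = τ * y
  u_comm : u * τ = τ * u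
  u_sq : u * u = 1
  u_inv : u * y * u⁻¹ = y⁻¹
  S_comm : ∀ s ∈ S, s * τ = τ * s
  S_y : ∀ s ∈ S, s * y = y * s
  S_two : ∀ s ∈ S, ∃ k : ℕ, s ^ 2 ^ k = 1
  S_u : ∀ s ∈ S, u * s * u⁻¹ ∈ closure S
  tau_mem : τ ∈ closure S
  u₀_mem : u₀ ∈ closure S
  y'_mem : y' ∈ closure S
  a_comm : a * τ = τ * a
  a_conj : a * y' * a⁻¹ = y
  witness : ∃ m₁ m₂ : M, m₁ * y = y * m₁ ∧ m₂ * y = y * m₂ ∧ m₁ * y' = y' * m₁ ∧ m₂ * y' = y' * m₂ ∧
    ⁅m₁, m₂⁆ * y'⁻¹ ∈ zpowers y
  g_y : g * y = y * g
  g_tau : g * τ * g⁻¹ = u₀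
  g_u₀ : g * u₀ * g⁻¹ = τ * u₀
  gen : centralizer ({y} : Set M) ≤ closure (insert g (insert y S))
  rigid : ∀ c : M, c * τ = τ * c → c * y = y * c → c * u₀ = u₀ * c →
    (∀ x ∈ closure (insert y S), g⁻¹ * x * g ∈ closure (insert y S) → c * x = x * c) →
    ∃ i : ℕ, ∃ v : M, (v = 1 ∨ v = τ ∨ v = u₀ ∨ v = τ * u₀) ∧ c = v * y ^ i
  kill : ∀ v : M, v = τ ∨ v = u₀ → ∃ k ∈ closure S, ∃ n : ℕ,
    (g * k) ^ (3 * n) = 1 ∧ (v * g * k) ^ (3 * n) ≠ 1

namespace LiftModel

variable {τ y y' u u₀ a g : M} {S : Set M} (hm : LiftModel τ y y' u u₀ a g S)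

include hm

theorem closure_le_centTau : closure S ≤ centralizer ({τ} : Set M) :=
  (closure_le _).2 fun s hs => mem_centralizer_singleton_iff.2 (hm.S_comm s hs)

theorem closure_le_centY : closure S ≤ centralizer ({y} : Set M) :=
  (closure_le _).2 fun s hs => mem_centralizer_singleton_iff.2 (hm.S_y s hs)

theorem tau_y : τ * y = y * τ := hm.y_comm.symm

theorem u₀_y : u₀ * y = y * u₀ := mem_centralizer_singleton_iff.1 (hm.closure_le_centY hm.u₀_mem)

theorem u₀_tau : u₀ * τ = τ * u₀ := mem_centralizer_singleton_iff.1 (hm.closure_le_centTau hm.u₀_mem)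

theorem y'_y : y' * y = y * y' := mem_centralizer_singleton_iff.1 (hm.closure_le_centY hm.y'_mem)

theorem y'_tau : y' * τ = τ * y' := mem_centralizer_singleton_iff.1 (hm.closure_le_centTau hm.y'_mem)

theorem orderOf_y : orderOf y = 3 := by
  have := Fact.mk Nat.prime_three
  exact orderOf_eq_prime hm.y_cube hm.y_ne

theorem g_mem : g ∈ centralizer ({y} : Set M) := mem_centralizer_singleton_iff.2 hm.g_y

theorem insert_le_centY : closure (insert y S) ≤ centralizer ({y} : Set M) := by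
  rw [closure_le]
  rintro x (rfl | hx)
  · exact mem_centralizer_singleton_iff.2 rfl
  · exact mem_centralizer_singleton_iff.2 (hm.S_y x hx)

end LiftModel

/-- In a group of order 3 the generator is the only nontrivial element besides its inverse. -/
theorem eq_or_eq_inv_of_mem_zpowers {Y z : G} (hY : Y ^ 3 = 1) (hz : z ∈ zpowers Y) (hz1 : z ≠ 1) :
    z = Y ∨ z = Y⁻¹ := by
  obtain ⟨k, rfl⟩ := mem_zpowers_iff.1 hz
  have h3 : Y ^ (3 : ℤ) = 1 := by exact_mod_cast hY
  have hk : Y ^ k = Y ^ (k % 3) := by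
    conv_lhs => rw [← Int.mul_ediv_add_emod k 3, zpow_add, zpow_mul, h3, one_zpow, one_mul]
  rw [hk] at hz1 ⊢
  have hc : k % 3 = 0 ∨ k % 3 = 1 ∨ k % 3 = 2 := by omega
  rcases hc with h | h | h <;> rw [h] at hz1 ⊢
  · exact absurd (zpow_zero Y) hz1
  · exact Or.inl (zpow_one Y)
  · refine Or.inr (eq_inv_of_mul_eq_one_left ?_)
    rw [show (2 : ℤ) = 3 - 1 by norm_num, zpow_sub, zpow_one, h3, one_mul, inv_mul_cancel]

/-- An element with a trivial cube and a trivial power of two is trivial. -/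
theorem eq_one_of_cube_of_two_pow {z : G} {k : ℕ} (h3 : z ^ 3 = 1) (h2 : z ^ 2 ^ k = 1) : z = 1 := by
  rw [← orderOf_eq_one_iff, ← Nat.dvd_one]
  have h : Nat.Coprime 3 (2 ^ k) := Nat.Coprime.pow_right k (by norm_num)
  exact h.gcd_eq_one ▸ Nat.dvd_gcd (orderOf_dvd_of_pow_eq_one h3) (orderOf_dvd_of_pow_eq_one h2)

section Perfect

variable {τ y y' u u₀ a g : M} {S : Set M}

/-- The centraliser of `θ y` is perfect if its quotient by `θ y` is that of `y`, compatibly with `θ`. -/
theorem perfect_cent (hm : LiftModel τ y y' u u₀ a g S) (hQ : Group.IsPerfect Q)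
    (β : ↥(centralizer ({y} : Set M)) →* Q)
    (hβ : ∀ m : ↥(centralizer ({y} : Set M)), β m = 1 ↔ (m : M) ∈ zpowers y)
    (θ : ↥(centralizer ({τ} : Set M)) →* G) (hθ : Function.Injective θ) {Y : G}
    (hY : θ ⟨y, mem_centralizer_singleton_iff.2 hm.y_comm⟩ = Y)
    (α : ↥(centralizer ({Y} : Set G)) →* Q) (hα : Function.Surjective α)
    (hker : ∀ x : ↥(centralizer ({Y} : Set G)), α x = 1 → (x : G) ∈ zpowers Y)
    (hlift : ∀ m, ∃ x, α x = β m)
    (hagree : ∀ (c : ↥(centralizer ({τ} : Set M))) (hc : (c : M) ∈ centralizer ({y} : Set M))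
      (h : θ c ∈ centralizer ({Y} : Set G)), α ⟨θ c, h⟩ = β ⟨c, hc⟩) :
    Group.IsPerfect ↥(centralizer ({Y} : Set G)) := by
  classical
  set yC : ↥(centralizer ({τ} : Set M)) := ⟨y, mem_centralizer_singleton_iff.2 hm.y_comm⟩ with hyC
  have hY3 : Y ^ 3 = 1 := by rw [← hY, ← map_pow, show yC ^ 3 = 1 from Subtype.ext hm.y_cube, map_one]
  have hY1 : Y ≠ 1 := fun e => hm.y_ne (congrArg Subtype.val (hθ (hY.trans (e.trans (map_one θ).symm))))
  have hYA : Y ∈ (centralizer ({Y} : Set G)) := mem_centralizer_singleton_iff.2 rfl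
  have hdec : ∀ x : ↥(centralizer ({Y} : Set G)), ∃ d ∈ commutator ↥(centralizer ({Y} : Set G)), α (d⁻¹ * x) = 1 := by
    intro x
    have hx : α x ∈ (commutator ↥(centralizer ({Y} : Set G))).map α := by
      rw [SchurCover.map_commutator_eq α hα, (Group.isPerfect_def).1 hQ]; exact mem_top _
    obtain ⟨d, hd, hdx⟩ := hx
    exact ⟨d, hd, by rw [map_mul, map_inv, hdx, inv_mul_cancel]⟩
  have hcube : ∀ z : ↥(centralizer ({Y} : Set G)), α z = 1 → z ^ 3 = 1 := by
    intro z hz
    obtain ⟨k, hk⟩ := mem_zpowers_iff.1 (hker z hz)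
    refine Subtype.ext ?_
    rw [SubmonoidClass.coe_pow, OneMemClass.coe_one, ← hk, ← zpow_natCast, ← zpow_mul, mul_comm, zpow_mul,
      zpow_natCast, hY3, one_zpow]
  by_cases hYD : (⟨Y, hYA⟩ : ↥(centralizer ({Y} : Set G))) ∈ commutator ↥(centralizer ({Y} : Set G))
  · refine (Group.isPerfect_def).2 (eq_top_iff.2 fun x _ => ?_)
    obtain ⟨d, hd, hz⟩ := hdec x
    obtain ⟨k, hk⟩ := mem_zpowers_iff.1 (hker _ hz)
    have he : d⁻¹ * x = (⟨Y, hYA⟩ : ↥(centralizer ({Y} : Set G))) ^ k := Subtype.ext (by rw [SubgroupClass.coe_zpow]; exact hk.symm)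
    have := mul_mem hd (zpow_mem hYD k)
    rwa [← he, mul_inv_cancel_left] at this
  exfalso
  have hker' : ∀ z ∈ commutator ↥(centralizer ({Y} : Set G)), α z = 1 → z = 1 := by
    intro z hz hz1
    by_contra hne
    rcases eq_or_eq_inv_of_mem_zpowers hY3 (hker z hz1) (fun e => hne (Subtype.ext e)) with e | e
    · exact hYD ((show z = ⟨Y, hYA⟩ from Subtype.ext e) ▸ hz)
    · refine hYD ?_
      have := inv_mem hz
      rwa [show z = (⟨Y, hYA⟩ : ↥(centralizer ({Y} : Set G)))⁻¹ from Subtype.ext e, inv_inv] at this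
  have hcA : ∀ c : ↥(centralizer ({τ} : Set M)), (c : M) ∈ centralizer ({y} : Set M) → θ c ∈ (centralizer ({Y} : Set G)) := by
    intro c hc
    rw [mem_centralizer_singleton_iff, ← hY, ← map_mul, ← map_mul]
    exact congrArg θ (Subtype.ext (mem_centralizer_singleton_iff.1 hc))
  -- the images of `S` lie in the derived subgroup
  have hS : ∀ x (hx : x ∈ closure S), (⟨θ ⟨x, hm.closure_le_centTau hx⟩, hcA _ (hm.closure_le_centY hx)⟩ : ↥(centralizer ({Y} : Set G))) ∈
      commutator ↥(centralizer ({Y} : Set G)) := by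
    intro x hx
    induction hx using closure_induction with
    | mem s hs =>
      set x : ↥(centralizer ({Y} : Set G)) := ⟨θ ⟨s, hm.closure_le_centTau (subset_closure hs)⟩, _⟩
      obtain ⟨d, hd, hz⟩ := hdec x
      obtain ⟨k, hk⟩ := hm.S_two s hs
      have hxk : x ^ 2 ^ k = 1 := Subtype.ext (by
        show θ _ ^ 2 ^ k = 1
        rw [← map_pow, show (⟨s, _⟩ : ↥(centralizer ({τ} : Set M))) ^ 2 ^ k = 1 from Subtype.ext hk, map_one])
      have hz3 := hcube _ hz
      have hcen : Commute d (d⁻¹ * x) := by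
        obtain ⟨j, hj⟩ := mem_zpowers_iff.1 (hker _ hz)
        refine Subtype.ext ?_
        show (d : G) * ((d⁻¹ * x : ↥(centralizer ({Y} : Set G))) : G) = ((d⁻¹ * x : ↥(centralizer ({Y} : Set G))) : G) * d
        rw [← hj]
        exact ((Commute.zpow_right (mem_centralizer_singleton_iff.1 d.2) j))
      have hxd : x = d * (d⁻¹ * x) := (mul_inv_cancel_left d x).symm
      have hzk : (d⁻¹ * x) ^ 2 ^ k = 1 := by
        refine hker' _ ?_ (by rw [map_pow, hz, one_pow])
        have e : d ^ 2 ^ k * (d⁻¹ * x) ^ 2 ^ k = 1 := by rw [← hcen.mul_pow, ← hxd, hxk]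
        rw [eq_inv_of_mul_eq_one_right e]
        exact inv_mem (pow_mem hd _)
      rw [hxd, eq_one_of_cube_of_two_pow hz3 hzk, mul_one]
      exact hd
    | one => exact (show (⟨θ ⟨1, _⟩, _⟩ : ↥(centralizer ({Y} : Set G))) = 1 from Subtype.ext (map_one θ)) ▸ one_mem _
    | mul p q hp hq ihp ihq =>
      have e : (⟨θ ⟨p * q, hm.closure_le_centTau (mul_mem hp hq)⟩,
          hcA _ (hm.closure_le_centY (mul_mem hp hq))⟩ : ↥(centralizer ({Y} : Set G))) =
          ⟨θ ⟨p, hm.closure_le_centTau hp⟩, hcA _ (hm.closure_le_centY hp)⟩ *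
          ⟨θ ⟨q, hm.closure_le_centTau hq⟩, hcA _ (hm.closure_le_centY hq)⟩ :=
        Subtype.ext (map_mul θ ⟨p, hm.closure_le_centTau hp⟩ ⟨q, hm.closure_le_centTau hq⟩)
      exact e ▸ mul_mem ihp ihq
    | inv p hp ihp =>
      have e : (⟨θ ⟨p⁻¹, hm.closure_le_centTau (inv_mem hp)⟩,
          hcA _ (hm.closure_le_centY (inv_mem hp))⟩ : ↥(centralizer ({Y} : Set G))) =
          (⟨θ ⟨p, hm.closure_le_centTau hp⟩, hcA _ (hm.closure_le_centY hp)⟩ : ↥(centralizer ({Y} : Set G)))⁻¹ :=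
        Subtype.ext (map_inv θ ⟨p, hm.closure_le_centTau hp⟩)
      exact e ▸ inv_mem ihp
  obtain ⟨m₁, m₂, h1, h2, h1', h2', hw⟩ := hm.witness
  set b' : ↥(centralizer ({Y} : Set G)) := ⟨θ ⟨y', hm.closure_le_centTau hm.y'_mem⟩, hcA _ (hm.closure_le_centY hm.y'_mem)⟩ with hb'
  set yB : ↥(centralizer ({y} : Set M)) := ⟨y', hm.closure_le_centY hm.y'_mem⟩ with hyB
  have hαb : α b' = β yB := hagree _ _ _
  have hb'D : b' ∈ commutator ↥(centralizer ({Y} : Set G)) := hS y' hm.y'_mem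
  obtain ⟨x₁, hx₁⟩ := hlift ⟨m₁, mem_centralizer_singleton_iff.2 h1⟩
  obtain ⟨x₂, hx₂⟩ := hlift ⟨m₂, mem_centralizer_singleton_iff.2 h2⟩
  have hcomm : ∀ (x : ↥(centralizer ({Y} : Set G))) (m : ↥(centralizer ({y} : Set M))), α x = β m → (m : M) * y' = y' * m →
      x * b' = b' * x := by
    intro x m hx hmy
    refine commutatorElement_eq_one_iff_mul_comm.1 (hker' _
      (commutator_mem_commutator (mem_top x) (mem_top b')) ?_)
    rw [map_commutatorElement, hx, hαb, ← map_commutatorElement, commutatorElement_eq_one_iff_mul_comm.2,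
      map_one]
    exact Subtype.ext hmy
  have hc1 := hcomm x₁ _ hx₁ h1'
  have hc2 := hcomm x₂ _ hx₂ h2'
  have hprod : ⁅x₁, x₂⁆ = b' := by
    refine mul_inv_eq_one.1 (hker' _
      (mul_mem (commutator_mem_commutator (mem_top x₁) (mem_top x₂)) (inv_mem hb'D)) ?_)
    rw [map_mul, map_inv, map_commutatorElement, hx₁, hx₂, hαb, ← map_commutatorElement, ← map_inv, ← map_mul,
      hβ]
    simpa [commutatorElement_def, hyB] using hw
  -- conjugation by the swapping element
  set aC : ↥(centralizer ({τ} : Set M)) := ⟨a, mem_centralizer_singleton_iff.2 hm.a_comm⟩ with haC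
  set y'C : ↥(centralizer ({τ} : Set M)) := ⟨y', hm.closure_le_centTau hm.y'_mem⟩ with hy'C
  have hconj : θ aC * (b' : G) * (θ aC)⁻¹ = Y := by
    show θ aC * θ y'C * (θ aC)⁻¹ = Y
    rw [← hY, ← map_mul, ← map_inv, ← map_mul]
    exact congrArg θ (Subtype.ext hm.a_conj)
  have hmemA : ∀ x : ↥(centralizer ({Y} : Set G)), x * b' = b' * x → θ aC * (x : G) * (θ aC)⁻¹ ∈ (centralizer ({Y} : Set G)) := by
    intro x hx
    have hx' : (x : G) * b' = b' * x := congrArg Subtype.val hx
    rw [mem_centralizer_singleton_iff]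
    calc θ aC * (x : G) * (θ aC)⁻¹ * Y
        = θ aC * (x : G) * (θ aC)⁻¹ * (θ aC * (b' : G) * (θ aC)⁻¹) := congrArg (fun z => θ aC * (x : G) * (θ aC)⁻¹ * z) hconj.symm
      _ = θ aC * ((x : G) * b') * (θ aC)⁻¹ := by group
      _ = θ aC * ((b' : G) * x) * (θ aC)⁻¹ := by rw [hx']
      _ = θ aC * (b' : G) * (θ aC)⁻¹ * (θ aC * (x : G) * (θ aC)⁻¹) := by group
      _ = _ := congrArg (fun z => z * (θ aC * (x : G) * (θ aC)⁻¹)) hconj
  refine hYD ?_
  have key : (⟨Y, hYA⟩ : ↥(centralizer ({Y} : Set G))) = ⁅(⟨_, hmemA x₁ hc1⟩ : ↥(centralizer ({Y} : Set G))), ⟨_, hmemA x₂ hc2⟩⁆ := by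
    refine Subtype.ext ?_
    have hp : (x₁ : G) * x₂ * (x₁ : G)⁻¹ * (x₂ : G)⁻¹ = b' := by
      rw [← hprod, commutatorElement_def]; rfl
    show Y = θ aC * (x₁ : G) * (θ aC)⁻¹ * (θ aC * (x₂ : G) * (θ aC)⁻¹) * (θ aC * (x₁ : G) * (θ aC)⁻¹)⁻¹ *
      (θ aC * (x₂ : G) * (θ aC)⁻¹)⁻¹
    refine hconj.symm.trans ?_
    rw [← hp]
    group
  rw [key]
  exact commutator_mem_commutator (mem_top _) (mem_top _)

end Perfect

/-- A homomorphism on a subgroup extends over an involution normalising it. -/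
theorem exists_extend_invol (C N : Subgroup M) (f : ↥C →* G) {u : M} {U : G} (huu : u * u = 1) (hUU : U * U = 1)
    (huC : u ∉ C) (hnorm : ∀ c ∈ C, u * c * u⁻¹ ∈ C) (hN : ∀ x ∈ N, x ∈ C ∨ x * u ∈ C)
    (heq : ∀ c : C, U * f c * U⁻¹ = f ⟨u * c * u⁻¹, hnorm c c.2⟩) :
    ∃ F : ↥N →* G, (∀ x (h : x ∈ N) (hc : x ∈ C), F ⟨x, h⟩ = f ⟨x, hc⟩) ∧
      ∀ x (h : x ∈ N) (hc : x * u ∈ C), F ⟨x, h⟩ = f ⟨x * u, hc⟩ * U := by
  classical
  have hu : u⁻¹ = u := inv_eq_of_mul_eq_one_right huu
  have hU : U⁻¹ = U := inv_eq_of_mul_eq_one_right hUU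
  have hexcl : ∀ {x : M}, x * u ∈ C → x ∉ C := by
    intro x hxu hx
    have := mul_mem (inv_mem hx) hxu
    rw [inv_mul_cancel_left] at this
    exact huC this
  let F : ↥N → G := fun x => if h : (x : M) ∈ C then f ⟨x, h⟩ else f ⟨(x : M) * u, (hN x x.2).resolve_left h⟩ * U
  have hFC : ∀ x (h : x ∈ N) (hc : x ∈ C), F ⟨x, h⟩ = f ⟨x, hc⟩ := fun x h hc => dif_pos (show x ∈ C from hc)
  have hFu : ∀ x (h : x ∈ N) (hc : x * u ∈ C), F ⟨x, h⟩ = f ⟨x * u, hc⟩ * U := fun x h hc => dif_neg (hexcl hc)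
  refine ⟨MonoidHom.mk' F ?_, hFC, hFu⟩
  rintro ⟨p, hp⟩ ⟨q, hq⟩
  rw [show (⟨p, hp⟩ : N) * ⟨q, hq⟩ = ⟨p * q, mul_mem hp hq⟩ from rfl]
  have hUf : ∀ c : C, U * f c = f ⟨u * c * u⁻¹, hnorm c c.2⟩ * U := fun c => by
    rw [← heq, inv_mul_cancel_right]
  rcases hN p hp with hpC | hpC <;> rcases hN q hq with hqC | hqC
  · rw [hFC _ _ hpC, hFC _ _ hqC, hFC _ _ (mul_mem hpC hqC), ← map_mul]
    rfl
  · have h : p * q * u ∈ C := by rw [mul_assoc]; exact mul_mem hpC hqC
    rw [hFC _ _ hpC, hFu _ _ hqC, hFu _ _ h, ← mul_assoc, ← map_mul]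
    exact congrArg (fun z => f z * U) (Subtype.ext (mul_assoc p q u))
  · have h : p * q * u ∈ C := by
      have := mul_mem hpC (hnorm q hqC)
      rwa [show p * u * (u * q * u⁻¹) = p * (u * u) * q * u⁻¹ by group, huu, mul_one, hu] at this
    rw [hFu _ _ hpC, hFC _ _ hqC, hFu _ _ h, mul_assoc (f _) U (f _), hUf, ← mul_assoc (f _) (f _) U, ← map_mul]
    refine congrArg (fun z => f z * U) (Subtype.ext ?_)
    show p * q * u = p * u * (u * q * u⁻¹)
    rw [show p * u * (u * q * u⁻¹) = p * (u * u) * q * u⁻¹ by group, huu, mul_one, hu]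
  · have h : p * q ∈ C := by
      have := mul_mem hpC (hnorm _ hqC)
      rwa [show p * u * (u * (q * u) * u⁻¹) = p * (u * u) * q by group, huu, mul_one] at this
    rw [hFu _ _ hpC, hFu _ _ hqC, hFC _ _ h,
      show f ⟨p * u, hpC⟩ * U * (f ⟨q * u, hqC⟩ * U) = f ⟨p * u, hpC⟩ * (U * f ⟨q * u, hqC⟩) * U by group, hUf,
      mul_assoc, mul_assoc (f _) U U, hUU, mul_one, ← map_mul]
    refine congrArg f (Subtype.ext ?_)
    show p * q = p * u * (u * (q * u) * u⁻¹)
    rw [show p * u * (u * (q * u) * u⁻¹) = p * (u * u) * q by group, huu, mul_one]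

section Main

variable [Finite G] [Finite M] [Finite Q] {τ y y' u u₀ a g : M} {S : Set M}

omit [Finite G] [Finite M] [Finite Q] in
/-- The conjugate of an element centralising `y` under an element inverting it centralises `y`. -/
theorem conj_mem_centralizer_of_inverts {H : Type*} [Group H] {x y c : H} (hx : x * y * x⁻¹ = y⁻¹)
    (hc : c ∈ centralizer ({y} : Set H)) : x * c * x⁻¹ ∈ centralizer ({y} : Set H) := by
  rw [mem_centralizer_singleton_iff] at hc ⊢
  have hci : c * y⁻¹ = y⁻¹ * c := (Commute.inv_right (show Commute c y from hc)).eq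
  have e : y = x * y⁻¹ * x⁻¹ := by rw [← conj_inv, hx, inv_inv]
  calc x * c * x⁻¹ * y = x * c * x⁻¹ * (x * y⁻¹ * x⁻¹) := by rw [← e]
    _ = x * (c * y⁻¹) * x⁻¹ := by group
    _ = x * (y⁻¹ * c) * x⁻¹ := by rw [hci]
    _ = x * y⁻¹ * x⁻¹ * (x * c * x⁻¹) := by group
    _ = _ := by rw [← e]

/-- Conjugation by an inverting element as an endomorphism of the centraliser. -/
def invertConj {H : Type*} [Group H] {x y : H} (hx : x * y * x⁻¹ = y⁻¹) :
    ↥(centralizer ({y} : Set H)) →* ↥(centralizer ({y} : Set H)) :=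
  MonoidHom.mk' (fun c => ⟨x * c * x⁻¹, conj_mem_centralizer_of_inverts hx c.2⟩) fun b c => Subtype.ext (by
    show x * ((b : H) * c) * x⁻¹ = x * b * x⁻¹ * (x * c * x⁻¹)
    group)

/-- The isomorphism of the centralisers of `y` and `θ y` given by the fibre product. -/
theorem exists_centHom (hm : LiftModel τ y y' u u₀ a g S) (hQ : Group.IsPerfect Q)
    (hmult : Cfsg.HasCyclicSchurMultiplier Q 3)
    (β : ↥(centralizer ({y} : Set M)) →* Q) (hβs : Function.Surjective β)
    (hβ : ∀ m : ↥(centralizer ({y} : Set M)), β m = 1 ↔ (m : M) ∈ zpowers y)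
    (θ : ↥(centralizer ({τ} : Set M)) →* G) (hθ : Function.Injective θ) {Y : G}
    (hY : θ ⟨y, mem_centralizer_singleton_iff.2 hm.y_comm⟩ = Y)
    (R : Subgroup (G × M)) (hR₁ : ∀ p ∈ R, p.1 * Y = Y * p.1 ∧ p.2 * y = y * p.2)
    (hR₂ : ∀ x : G, x * Y = Y * x → ∃ m : M, (x, m) ∈ R)
    (hR₃ : ∀ m : M, m * y = y * m → ∃ x : G, (x, m) ∈ R)
    (hR₄ : ∀ x : G, (x, 1) ∈ R → x ∈ zpowers Y) (hR₅ : ∀ m : M, (1, m) ∈ R → m ∈ zpowers y)
    (hR₆ : ∀ c : ↥(centralizer ({τ} : Set M)), (c : M) * y = y * c → (θ c, (c : M)) ∈ R) :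
    Group.IsPerfect ↥(centralizer ({y} : Set M)) ∧
      ∃ e : ↥(centralizer ({y} : Set M)) ≃* ↥(centralizer ({Y} : Set G)),
        (∀ s (h : s ∈ closure S), (e ⟨s, hm.closure_le_centY h⟩ : G) = θ ⟨s, hm.closure_le_centTau h⟩) ∧
        ((e ⟨y, mem_centralizer_singleton_iff.2 rfl⟩ : G) = Y ∨
          (e ⟨y, mem_centralizer_singleton_iff.2 rfl⟩ : G) = Y⁻¹) := by
  classical
  have hYC : Y ^ 3 = 1 := by
    rw [← hY, ← map_pow]
    exact (congrArg θ (Subtype.ext hm.y_cube : (⟨y, mem_centralizer_singleton_iff.2 hm.y_comm⟩ :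
      ↥(centralizer ({τ} : Set M))) ^ 3 = 1)).trans (map_one θ)
  have hY1 : Y ≠ 1 := fun e => hm.y_ne (congrArg Subtype.val (hθ (hY.trans (e.trans (map_one θ).symm))))
  have hBmem : ∀ {x : G} {m : M}, (x, m) ∈ R → m ∈ (centralizer ({y} : Set M)) := fun h => mem_centralizer_singleton_iff.2 (hR₁ _ h).2
  have hwd : ∀ {x : G} {m m' : M} (h : (x, m) ∈ R) (h' : (x, m') ∈ R),
      β ⟨m, hBmem h⟩ = β ⟨m', hBmem h'⟩ := by
    intro x m m' h h'
    rw [← inv_mul_eq_one, ← map_inv, ← map_mul, hβ]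
    refine hR₅ _ ?_
    have := R.mul_mem (R.inv_mem h) h'
    rwa [Prod.inv_mk, Prod.mk_mul_mk, inv_mul_cancel] at this
  choose part hpart using fun x : ↥(centralizer ({Y} : Set G)) => hR₂ x (mem_centralizer_singleton_iff.1 x.2)
  let α : ↥(centralizer ({Y} : Set G)) →* Q := MonoidHom.mk' (fun x => β ⟨part x, hBmem (hpart x)⟩) fun x z => by
    rw [← map_mul]
    exact hwd (hpart (x * z)) (R.mul_mem (hpart x) (hpart z))
  have hαR : ∀ (x : ↥(centralizer ({Y} : Set G))) (m : M) (h : ((x : G), m) ∈ R), α x = β ⟨m, hBmem h⟩ := fun x m h => hwd (hpart x) h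
  have hlift : ∀ m, ∃ x, α x = β m := fun m => by
    obtain ⟨x, hx⟩ := hR₃ m (mem_centralizer_singleton_iff.1 m.2)
    exact ⟨⟨x, mem_centralizer_singleton_iff.2 (hR₁ _ hx).1⟩, hαR _ _ hx⟩
  have hαs : Function.Surjective α := fun q => by
    obtain ⟨m, rfl⟩ := hβs q
    exact hlift m
  have hagree : ∀ (c : ↥(centralizer ({τ} : Set M))) (hc : (c : M) ∈ (centralizer ({y} : Set M))) (h : θ c ∈ (centralizer ({Y} : Set G))),
      α ⟨θ c, h⟩ = β ⟨c, hc⟩ := fun c hc h =>
    hαR ⟨θ c, h⟩ c (hR₆ c (mem_centralizer_singleton_iff.1 hc))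
  have hker : ∀ x : ↥(centralizer ({Y} : Set G)), α x = 1 → (x : G) ∈ zpowers Y := by
    intro x hx
    obtain ⟨i, hi⟩ := mem_zpowers_iff.1 ((hβ _).1 hx)
    have hyR : (Y, y) ∈ R := hY ▸ hR₆ ⟨y, _⟩ rfl
    have := R.mul_mem (hpart x) (R.inv_mem (R.zpow_mem hyR i))
    rw [Prod.pow_mk, Prod.inv_mk, Prod.mk_mul_mk, hi, mul_inv_cancel] at this
    have h2 := mul_mem (hR₄ _ this) (zpow_mem (mem_zpowers Y) i)
    rwa [inv_mul_cancel_right] at h2
  have hperA := perfect_cent hm hQ β hβ θ hθ hY α hαs hker hlift hagree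
  have hperB : Group.IsPerfect ↥(centralizer ({y} : Set M)) :=
    perfect_cent hm hQ β hβ (centralizer ({τ} : Set M)).subtype (subtype_injective _) rfl β hβs
      (fun x hx => (hβ x).1 hx) (fun m => ⟨m, rfl⟩) (fun _ _ _ => rfl)
  have hαY : α ⟨Y, mem_centralizer_singleton_iff.2 rfl⟩ = 1 :=
    (hαR _ y (hY ▸ hR₆ ⟨y, mem_centralizer_singleton_iff.2 hm.y_comm⟩ rfl)).trans ((hβ _).2 (mem_zpowers y))
  have hcardA : Nat.card α.ker = 3 := by
    have e : α.ker = zpowers (⟨Y, mem_centralizer_singleton_iff.2 rfl⟩ : ↥(centralizer ({Y} : Set G))) := by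
      refine le_antisymm (fun x hx => ?_) (zpowers_le.2 hαY)
      obtain ⟨k, hk⟩ := mem_zpowers_iff.1 (hker x hx)
      exact mem_zpowers_iff.2 ⟨k, Subtype.ext (by rw [SubgroupClass.coe_zpow]; exact hk)⟩
    have := Fact.mk Nat.prime_three
    rw [e, Nat.card_zpowers, Subgroup.orderOf_mk, orderOf_eq_prime hYC hY1]
  have hcardB : Nat.card β.ker = 3 := by
    have e : β.ker = zpowers (⟨y, mem_centralizer_singleton_iff.2 rfl⟩ : ↥(centralizer ({y} : Set M))) := by
      refine le_antisymm (fun x hx => ?_) (zpowers_le.2 ((hβ _).2 (mem_zpowers y)))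
      obtain ⟨k, hk⟩ := mem_zpowers_iff.1 ((hβ x).1 hx)
      exact mem_zpowers_iff.2 ⟨k, Subtype.ext (by rw [SubgroupClass.coe_zpow]; exact hk)⟩
    rw [e, Nat.card_zpowers, Subgroup.orderOf_mk, hm.orderOf_y]
  have hcA : α.ker ≤ center ↥(centralizer ({Y} : Set G)) := fun x hx => mem_center_iff.2 fun z => Subtype.ext (by
    obtain ⟨k, hk⟩ := mem_zpowers_iff.1 (hker x hx)
    show (z : G) * x = x * z
    rw [← hk]
    exact Commute.zpow_right (mem_centralizer_singleton_iff.1 z.2) k)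
  have hcB : β.ker ≤ center ↥(centralizer ({y} : Set M)) := fun x hx => mem_center_iff.2 fun z => Subtype.ext (by
    obtain ⟨k, hk⟩ := mem_zpowers_iff.1 ((hβ x).1 hx)
    show (z : M) * x = x * z
    rw [← hk]
    exact Commute.zpow_right (mem_centralizer_singleton_iff.1 z.2) k)
  obtain ⟨e, he⟩ := SchurCover.exists_equiv_of_perfect_covers hmult hQ α hαs hcA hperA hcardA β hβs hcB hperB hcardB
  have he' : ∀ m, α (e m) = β m := fun m => DFunLike.congr_fun he m
  refine ⟨hperB, e, ?_, ?_⟩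
  · intro s hs
    induction hs using closure_induction with
    | mem s hs =>
      set b : ↥(centralizer ({y} : Set M)) := ⟨s, hm.closure_le_centY (subset_closure hs)⟩ with hb
      set c : ↥(centralizer ({τ} : Set M)) := ⟨s, hm.closure_le_centTau (subset_closure hs)⟩ with hc
      have hcA' : θ c ∈ (centralizer ({Y} : Set G)) := mem_centralizer_singleton_iff.2 (hR₁ _ (hR₆ c (hm.S_y s hs))).1
      have hd : α ((⟨θ c, hcA'⟩ : ↥(centralizer ({Y} : Set G)))⁻¹ * e b) = 1 := by
        rw [map_mul, map_inv, he', hagree c b.2, inv_mul_cancel]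
      have hd3 : ((⟨θ c, hcA'⟩ : ↥(centralizer ({Y} : Set G)))⁻¹ * e b) ^ 3 = 1 := by
        have hz : (⟨(⟨θ c, hcA'⟩ : ↥(centralizer ({Y} : Set G)))⁻¹ * e b, hd⟩ : α.ker) ^ 3 = 1 := hcardA ▸ pow_card_eq_one'
        exact congrArg Subtype.val hz
      obtain ⟨k, hk⟩ := hm.S_two s hs
      have hd2 : ((⟨θ c, hcA'⟩ : ↥(centralizer ({Y} : Set G)))⁻¹ * e b) ^ 2 ^ k = 1 := by
        have hcm : Commute (⟨θ c, hcA'⟩ : ↥(centralizer ({Y} : Set G))) ((⟨θ c, hcA'⟩ : ↥(centralizer ({Y} : Set G)))⁻¹ * e b) :=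
          mem_center_iff.1 (hcA hd) _
        have h1 := hcm.mul_pow (2 ^ k)
        rw [mul_inv_cancel_left, ← map_pow, show b ^ 2 ^ k = 1 from Subtype.ext hk, map_one,
          show (⟨θ c, hcA'⟩ : ↥(centralizer ({Y} : Set G))) ^ 2 ^ k = 1 from Subtype.ext (by
            show θ c ^ 2 ^ k = 1
            rw [← map_pow, show c ^ 2 ^ k = 1 from Subtype.ext hk, map_one]), one_mul] at h1
        exact h1.symm
      exact congrArg Subtype.val (inv_mul_eq_one.1 (eq_one_of_cube_of_two_pow hd3 hd2)).symm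
    | one => exact (congrArg Subtype.val e.map_one).trans (map_one θ).symm
    | mul p q hp hq ihp ihq =>
      exact (congrArg Subtype.val (e.map_mul ⟨p, hm.closure_le_centY hp⟩ ⟨q, hm.closure_le_centY hq⟩)).trans
        ((congrArg₂ (· * ·) ihp ihq).trans
          (map_mul θ ⟨p, hm.closure_le_centTau hp⟩ ⟨q, hm.closure_le_centTau hq⟩).symm)
    | inv p hp ihp =>
      exact (congrArg Subtype.val (e.map_inv ⟨p, hm.closure_le_centY hp⟩)).trans
        ((congrArg (·⁻¹) ihp).trans (map_inv θ ⟨p, hm.closure_le_centTau hp⟩).symm)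
  · refine eq_or_eq_inv_of_mem_zpowers hYC (hker _ ((he' _).trans ((hβ _).2 (mem_zpowers y)))) fun h1 => ?_
    have h2 := e.injective ((Subtype.ext h1 : e _ = 1).trans e.map_one.symm)
    exact hm.y_ne (congrArg Subtype.val h2)

omit [Finite G] [Finite M] [Finite Q] in
/-- The conjugation by `θ u` on the centraliser of `θ y` is that by `u` or by `u * τ`. -/
theorem conj_u_cases (hm : LiftModel τ y y' u u₀ a g S) (β : ↥(centralizer ({y} : Set M)) →* Q)
    (hβ : ∀ m : ↥(centralizer ({y} : Set M)), β m = 1 ↔ (m : M) ∈ zpowers y)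
    (hperB : Group.IsPerfect ↥(centralizer ({y} : Set M)))
    (θ : ↥(centralizer ({τ} : Set M)) →* G) {Y : G}
    (e : ↥(centralizer ({y} : Set M)) ≃* ↥(centralizer ({Y} : Set G)))
    (heS : ∀ s (h : s ∈ closure S), (e ⟨s, hm.closure_le_centY h⟩ : G) = θ ⟨s, hm.closure_le_centTau h⟩)
    (hey : (e ⟨y, mem_centralizer_singleton_iff.2 rfl⟩ : G) = Y ∨
      (e ⟨y, mem_centralizer_singleton_iff.2 rfl⟩ : G) = Y⁻¹)
    {U : G} (hU : θ ⟨u, mem_centralizer_singleton_iff.2 hm.u_comm⟩ = U) (hUY : U * Y * U⁻¹ = Y⁻¹) :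
    (∀ m, U * (e m : G) * U⁻¹ = e ⟨u * m * u⁻¹, conj_mem_centralizer_of_inverts hm.u_inv m.2⟩) ∨
    (∀ m, U * (e m : G) * U⁻¹ = e ⟨u * (τ * m * τ⁻¹) * u⁻¹, conj_mem_centralizer_of_inverts hm.u_inv
      (mul_mem (mul_mem (mem_centralizer_singleton_iff.2 hm.tau_y) m.2)
        (inv_mem (mem_centralizer_singleton_iff.2 hm.tau_y)))⟩) := by
  classical
  have hu : u⁻¹ = u := inv_eq_of_mul_eq_one_right hm.u_sq
  have hτ : τ⁻¹ = τ := inv_eq_of_mul_eq_one_right hm.tau_sq
  let φ : ↥(centralizer ({y} : Set M)) →* ↥(centralizer ({y} : Set M)) := (invertConj hm.u_inv).comp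
    (e.symm.toMonoidHom.comp ((invertConj hUY).comp e.toMonoidHom))
  have hφdef : ∀ m : ↥(centralizer ({y} : Set M)), (φ m : M) = u * (e.symm (invertConj hUY (e m)) : M) * u⁻¹ := fun _ => rfl
  have hback : ∀ m : ↥(centralizer ({y} : Set M)), (e (invertConj hm.u_inv (φ m)) : G) = U * (e m : G) * U⁻¹ := by
    intro m
    have : invertConj hm.u_inv (φ m) = e.symm (invertConj hUY (e m)) := Subtype.ext (by
      show u * (u * (e.symm (invertConj hUY (e m)) : M) * u⁻¹) * u⁻¹ = _
      rw [hu, show u * (u * (e.symm (invertConj hUY (e m)) : M) * u) * u =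
        (u * u) * (e.symm (invertConj hUY (e m)) : M) * (u * u) by group, hm.u_sq, one_mul, mul_one])
    rw [this, e.apply_symm_apply]
    rfl
  have hfix : ∀ x (h : x ∈ closure (insert y S)), (φ ⟨x, hm.insert_le_centY h⟩ : M) = x := by
    intro x h
    induction h using closure_induction with
    | mem x hx =>
      have key : ∀ z : ↥(centralizer ({y} : Set M)), (e z : G) = U * (e ⟨x, hm.insert_le_centY (subset_closure hx)⟩ : G) * U⁻¹ →
          u * (z : M) * u⁻¹ = x → (φ ⟨x, hm.insert_le_centY (subset_closure hx)⟩ : M) = x := by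
        intro z hz hz'
        rw [hφdef, show invertConj hUY (e ⟨x, hm.insert_le_centY (subset_closure hx)⟩) = e z from
          Subtype.ext hz.symm, e.symm_apply_apply]
        exact hz'
      rcases hx with rfl | hx
      · refine key (⟨x, mem_centralizer_singleton_iff.2 rfl⟩⁻¹) ?_ ?_
        · rw [map_inv, InvMemClass.coe_inv]
          rcases hey with h | h <;> rw [h]
          · exact hUY.symm
          · rw [← conj_inv, hUY]
        · show u * x⁻¹ * u⁻¹ = x
          rw [← conj_inv, hm.u_inv, inv_inv]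
      · have hmem := hm.S_u x hx
        refine key ⟨u * x * u⁻¹, hm.closure_le_centY hmem⟩ ?_ ?_
        · rw [heS _ hmem, heS _ (subset_closure hx), ← hU, ← map_inv, ← map_mul, ← map_mul]
          rfl
        · show u * (u * x * u⁻¹) * u⁻¹ = x
          rw [hu, show u * (u * x * u) * u = (u * u) * x * (u * u) by group, hm.u_sq, one_mul, mul_one]
    | one => exact congrArg Subtype.val φ.map_one
    | mul p q hp hq ihp ihq =>
      exact (congrArg Subtype.val (φ.map_mul ⟨p, hm.insert_le_centY hp⟩ ⟨q, hm.insert_le_centY hq⟩)).trans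
        (congrArg₂ (· * ·) ihp ihq)
    | inv p hp ihp =>
      exact (congrArg Subtype.val (φ.map_inv ⟨p, hm.insert_le_centY hp⟩)).trans (congrArg (·⁻¹) ihp)
  set gB : ↥(centralizer ({y} : Set M)) := ⟨g, hm.g_mem⟩ with hgB
  set c : M := (φ gB : M) * g⁻¹ with hc
  have hcom : ∀ x (hx : x ∈ closure (insert y S)), g⁻¹ * x * g ∈ closure (insert y S) → c * x = x * c := by
    intro x hx hx'
    have hprod : gB * ⟨g⁻¹ * x * g, hm.insert_le_centY hx'⟩ = ⟨x, hm.insert_le_centY hx⟩ * gB :=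
      Subtype.ext (show g * (g⁻¹ * x * g) = x * g by group)
    have h := congrArg (fun b : ↥(centralizer ({y} : Set M)) => (φ b : M)) hprod
    simp only [map_mul, Subgroup.coe_mul] at h
    rw [hfix _ hx, hfix _ hx'] at h
    have h2 : (φ gB : M) * g⁻¹ * x * g = x * (φ gB : M) := by
      rw [← h]; group
    calc c * x = (φ gB : M) * g⁻¹ * x * g * g⁻¹ := by rw [hc]; group
      _ = _ := by rw [h2, hc, mul_assoc]
  have hle : closure S ≤ closure (insert y S) := closure_mono (Set.subset_insert y S)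
  have hgi₀ : g⁻¹ * u₀ * g = τ := by rw [← hm.g_tau]; group
  have hgiτ : g⁻¹ * τ * g = τ * u₀ := by
    have h1 : g * (τ * u₀) * g⁻¹ = τ := by
      rw [← conj_mul, hm.g_tau, hm.g_u₀, ← mul_assoc, hm.u₀_tau, mul_assoc]
      have : u₀ * u₀ = 1 := by rw [← hm.g_tau, conj_mul, hm.tau_sq, mul_one, mul_inv_cancel]
      rw [this, mul_one]
    conv_lhs => rw [← h1]
    group
  have hcy : c * y = y * c :=
    mem_centralizer_singleton_iff.1 (mul_mem (φ gB).2 (inv_mem hm.g_mem) : c ∈ centralizer ({y} : Set M))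
  have hcτ : c * τ = τ * c := hcom τ (hle hm.tau_mem) (hgiτ ▸ hle (mul_mem hm.tau_mem hm.u₀_mem))
  have hcu : c * u₀ = u₀ * c := hcom u₀ (hle hm.u₀_mem) (hgi₀.symm ▸ hle hm.tau_mem)
  obtain ⟨i, v, hv, hcv⟩ := hm.rigid c hcτ hcy hcu hcom
  have hφg : (φ gB : M) = v * y ^ i * g := by rw [← hcv, hc, inv_mul_cancel_right]
  have hyc : ∀ x ∈ closure S, Commute y x := fun x hx =>
    (mem_centralizer_singleton_iff.1 (hm.closure_le_centY hx)).symm
  have hvy : Commute v (y ^ i) := by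
    refine Commute.pow_right ?_ i
    rcases hv with rfl | rfl | rfl | rfl
    · exact Commute.one_left y
    · exact hm.tau_y
    · exact hm.u₀_y
    · exact Commute.mul_left hm.tau_y hm.u₀_y
  have hcenB : β.ker ≤ center ↥(centralizer ({y} : Set M)) := fun x hx => mem_center_iff.2 fun z => Subtype.ext (by
    obtain ⟨k, hk⟩ := mem_zpowers_iff.1 ((hβ x).1 hx)
    show (z : M) * x = x * z
    rw [← hk]
    exact Commute.zpow_right (mem_centralizer_singleton_iff.1 z.2) k)
  -- an automorphism agreeing with `φ` on the generators is `φ`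
  have hext : ∀ ψ : ↥(centralizer ({y} : Set M)) →* ↥(centralizer ({y} : Set M)), (∀ x (h : x ∈ closure (insert y S)), (ψ ⟨x, hm.insert_le_centY h⟩ : M) = x) →
      (φ gB : M) = y ^ i * (ψ gB : M) → φ = ψ := by
    intro ψ hψ hg'
    refine SchurCover.hom_ext_of_perfect hperB hcenB φ ψ (MonoidHom.ext fun m => ?_)
    have hall : ∀ x (hx : x ∈ closure (insert g (insert y S))), ∀ hxB : x ∈ (centralizer ({y} : Set M)),
        β (φ ⟨x, hxB⟩) = β (ψ ⟨x, hxB⟩) := by
      intro x hx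
      have hxB' : ∀ z ∈ closure (insert g (insert y S)), z ∈ (centralizer ({y} : Set M)) := fun z hz => by
        refine (closure_le (centralizer ({y} : Set M))).2 ?_ hz
        rintro w (rfl | hw)
        · exact hm.g_mem
        · exact hm.insert_le_centY (subset_closure hw)
      induction hx using closure_induction with
      | mem x hx =>
        intro hxB
        rcases hx with rfl | hx
        · have : φ ⟨x, hxB⟩ = (⟨y, mem_centralizer_singleton_iff.2 rfl⟩ : ↥(centralizer ({y} : Set M))) ^ i * ψ ⟨x, hxB⟩ :=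
            Subtype.ext hg'
          rw [this, map_mul, map_pow, (hβ _).2 (mem_zpowers y), one_pow, one_mul]
        · exact congrArg β (Subtype.ext ((hfix x (subset_closure hx)).trans (hψ x (subset_closure hx)).symm))
      | one =>
        intro hxB
        rw [show (⟨1, hxB⟩ : ↥(centralizer ({y} : Set M))) = 1 from rfl]
        simp only [map_one]
      | mul p q hp hq ihp ihq =>
        intro hxB
        rw [show (⟨p * q, hxB⟩ : ↥(centralizer ({y} : Set M))) = ⟨p, hxB' p hp⟩ * ⟨q, hxB' q hq⟩ from rfl]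
        simp only [map_mul, ihp, ihq]
      | inv p hp ihp =>
        intro hxB
        rw [show (⟨p⁻¹, hxB⟩ : ↥(centralizer ({y} : Set M))) = ⟨p, hxB' p hp⟩⁻¹ from rfl]
        simp only [map_inv, ihp]
    exact hall m (hm.gen m.2) m.2
  -- the candidates excluded by the orders
  have hkill : ¬(v = τ ∨ v = u₀) := by
    intro hv'
    obtain ⟨k, hk, n, h1, h2⟩ := hm.kill v hv'
    refine h2 ?_
    have hkB : k ∈ (centralizer ({y} : Set M)) := hm.closure_le_centY hk
    have h3 := congrArg (fun b : ↥(centralizer ({y} : Set M)) => (φ b : M)) (Subtype.ext h1 : (gB * ⟨k, hkB⟩) ^ (3 * n) = 1)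
    simp only [map_pow, map_mul, map_one, Subgroup.coe_mul, SubmonoidClass.coe_pow, OneMemClass.coe_one] at h3
    rw [hfix k (hle hk), hφg, show v * y ^ i * g * k = y ^ i * (v * g * k) by rw [hvy.eq]; group] at h3
    have hc' : Commute (y ^ i) (v * g * k) :=
      (hvy.symm.mul_right ((show Commute y g from hm.g_y.symm).pow_left i)).mul_right ((hyc k hk).pow_left i)
    rwa [hc'.mul_pow, ← pow_mul, mul_left_comm, pow_mul, hm.y_cube, one_pow, one_mul] at h3
  rcases hv with rfl | rfl | rfl | rfl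
  · left
    have hid := hext (MonoidHom.id ↥(centralizer ({y} : Set M))) (fun x h => rfl) (by rw [hφg, one_mul]; rfl)
    intro m
    rw [← hback m, hid]
    rfl
  · exact absurd (Or.inl rfl) hkill
  · exact absurd (Or.inr rfl) hkill
  · right
    have hτB : τ ∈ (centralizer ({y} : Set M)) := mem_centralizer_singleton_iff.2 hm.tau_y
    have hψ : ∀ x (h : x ∈ closure (insert y S)),
        ((MulAut.conj (⟨τ, hτB⟩ : ↥(centralizer ({y} : Set M)))).toMonoidHom ⟨x, hm.insert_le_centY h⟩ : M) = x := by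
      intro x h
      have hxτ : x * τ = τ * x := by
        refine mem_centralizer_singleton_iff.1 ((closure_le (centralizer ({τ} : Set M))).2 ?_ h)
        rintro w (rfl | hw)
        · exact mem_centralizer_singleton_iff.2 hm.y_comm
        · exact mem_centralizer_singleton_iff.2 (hm.S_comm w hw)
      show τ * x * τ⁻¹ = x
      rw [← hxτ, mul_inv_cancel_right]
    have hid := hext (MulAut.conj (⟨τ, hτB⟩ : ↥(centralizer ({y} : Set M)))).toMonoidHom hψ (by
      show (φ gB : M) = y ^ i * (τ * g * τ⁻¹)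
      have hτg : τ * g * τ⁻¹ = τ * u₀ * g := by
        rw [← hm.g_tau, hτ]
        have h2 : g⁻¹ * g = 1 := inv_mul_cancel g
        rw [show τ * (g * τ * g⁻¹) * g = τ * g * τ * (g⁻¹ * g) by group, h2, mul_one]
      rw [hτg, hφg, hvy.eq, mul_assoc])
    intro m
    rw [← hback m, hid]
    rfl

/-- **Lift to the normalisers.** After composing `θ` with the twist if needed, it extends to an isomorphism of
the normalisers of `y` and of its image, which may invert `y`. -/
theorem exists_normalizerHom (hm : LiftModel τ y y' u u₀ a g S) (hQ : Group.IsPerfect Q)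
    (hmult : Cfsg.HasCyclicSchurMultiplier Q 3)
    (β : ↥(centralizer ({y} : Set M)) →* Q) (hβs : Function.Surjective β)
    (hβ : ∀ m : ↥(centralizer ({y} : Set M)), β m = 1 ↔ (m : M) ∈ zpowers y)
    (π : MulAut ↥(centralizer ({τ} : Set M)))
    (hπS : ∀ s (hs : s ∈ S), π ⟨s, mem_centralizer_singleton_iff.2 (hm.S_comm s hs)⟩ =
      ⟨s, mem_centralizer_singleton_iff.2 (hm.S_comm s hs)⟩)
    (hπy : π ⟨y, mem_centralizer_singleton_iff.2 hm.y_comm⟩ = ⟨y, mem_centralizer_singleton_iff.2 hm.y_comm⟩⁻¹)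
    (hπu : π ⟨u, mem_centralizer_singleton_iff.2 hm.u_comm⟩ =
      ⟨τ, mem_centralizer_singleton_iff.2 rfl⟩ * ⟨u, mem_centralizer_singleton_iff.2 hm.u_comm⟩)
    (θ : ↥(centralizer ({τ} : Set M)) →* G) (hθ : Function.Injective θ) {Y : G}
    (hY : θ ⟨y, mem_centralizer_singleton_iff.2 hm.y_comm⟩ = Y)
    (R : Subgroup (G × M)) (hR₁ : ∀ p ∈ R, p.1 * Y = Y * p.1 ∧ p.2 * y = y * p.2)
    (hR₂ : ∀ x : G, x * Y = Y * x → ∃ m : M, (x, m) ∈ R)
    (hR₃ : ∀ m : M, m * y = y * m → ∃ x : G, (x, m) ∈ R)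
    (hR₄ : ∀ x : G, (x, 1) ∈ R → x ∈ zpowers Y) (hR₅ : ∀ m : M, (1, m) ∈ R → m ∈ zpowers y)
    (hR₆ : ∀ c : ↥(centralizer ({τ} : Set M)), (c : M) * y = y * c → (θ c, (c : M)) ∈ R) :
    ∃ θ₂ : ↥(centralizer ({τ} : Set M)) →* G, (θ₂ = θ ∨ θ₂ = θ.comp π.toMonoidHom) ∧
      Function.Injective θ₂ ∧ θ₂.range = θ.range ∧
      (∀ s (h : s ∈ closure S), θ₂ ⟨s, hm.closure_le_centTau h⟩ = θ ⟨s, hm.closure_le_centTau h⟩) ∧
      ∃ F : ↥(normalizer (zpowers y : Set M)) →* G, Function.Injective F ∧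
        F.range = normalizer (zpowers Y : Set G) ∧
        (∀ (k : ↥(normalizer (zpowers y : Set M))) (h : (k : M) ∈ centralizer ({τ} : Set M)),
          (k : M) ∈ closure (insert u S) → F k = θ₂ ⟨k, h⟩) ∧
        (∀ h : y ∈ normalizer (zpowers y : Set M), F ⟨y, h⟩ = Y ∨ F ⟨y, h⟩ = Y⁻¹) := by
  classical
  obtain ⟨hperB, e, heS, hey⟩ := exists_centHom hm hQ hmult β hβs hβ θ hθ hY R hR₁ hR₂ hR₃ hR₄ hR₅ hR₆
  set uC : ↥(centralizer ({τ} : Set M)) := ⟨u, mem_centralizer_singleton_iff.2 hm.u_comm⟩ with huC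
  set τC : ↥(centralizer ({τ} : Set M)) := ⟨τ, mem_centralizer_singleton_iff.2 rfl⟩ with hτC
  set yC : ↥(centralizer ({τ} : Set M)) := ⟨y, mem_centralizer_singleton_iff.2 hm.y_comm⟩ with hyC
  have hUY : θ uC * Y * (θ uC)⁻¹ = Y⁻¹ := by
    rw [← hY, ← map_inv, ← map_mul, ← map_mul, ← map_inv]
    exact congrArg θ (Subtype.ext hm.u_inv)
  have hπτ : π τC = τC := by
    have hgen : ∀ s (h : s ∈ closure S), π ⟨s, hm.closure_le_centTau h⟩ = ⟨s, hm.closure_le_centTau h⟩ := by
      intro s h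
      induction h using closure_induction with
      | mem s hs => exact hπS s hs
      | one => exact map_one π
      | mul p q hp hq ihp ihq =>
        exact (map_mul π ⟨p, hm.closure_le_centTau hp⟩ ⟨q, hm.closure_le_centTau hq⟩).trans
          (congrArg₂ (· * ·) ihp ihq)
      | inv p hp ihp => exact (map_inv π ⟨p, hm.closure_le_centTau hp⟩).trans (congrArg (·⁻¹) ihp)
    exact hgen τ hm.tau_mem
  -- the choice of `θ₂`
  obtain ⟨θ₂, hor, hinj, hrange, hθS, hθu⟩ : ∃ θ₂ : ↥(centralizer ({τ} : Set M)) →* G,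
      (θ₂ = θ ∨ θ₂ = θ.comp π.toMonoidHom) ∧ Function.Injective θ₂ ∧ θ₂.range = θ.range ∧
      (∀ s (h : s ∈ closure S), θ₂ ⟨s, hm.closure_le_centTau h⟩ = θ ⟨s, hm.closure_le_centTau h⟩) ∧
      (∀ m, θ₂ uC * (e m : G) * (θ₂ uC)⁻¹ =
        e ⟨u * m * u⁻¹, conj_mem_centralizer_of_inverts hm.u_inv m.2⟩) := by
    rcases conj_u_cases hm β hβ hperB θ e heS hey rfl hUY with h | h
    · exact ⟨θ, Or.inl rfl, hθ, rfl, fun _ _ => rfl, h⟩
    refine ⟨θ.comp π.toMonoidHom, Or.inr rfl, hθ.comp π.injective, ?_, ?_, fun m => ?_⟩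
    · rw [MonoidHom.range_comp, MonoidHom.range_eq_top_of_surjective _ π.surjective, ← MonoidHom.range_eq_map]
    · intro s hs
      induction hs using closure_induction with
      | mem s hs => exact congrArg θ (hπS s hs)
      | one => exact congrArg θ (map_one π)
      | mul p q hp hq ihp ihq =>
        exact (map_mul (θ.comp π.toMonoidHom) ⟨p, hm.closure_le_centTau hp⟩ ⟨q, hm.closure_le_centTau hq⟩).trans
          ((congrArg₂ (· * ·) ihp ihq).trans (map_mul θ _ _).symm)
      | inv p hp ihp =>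
        exact (map_inv (θ.comp π.toMonoidHom) ⟨p, hm.closure_le_centTau hp⟩).trans
          ((congrArg (·⁻¹) ihp).trans (map_inv θ _).symm)
    set z : ↥(centralizer ({y} : Set M)) := ⟨u * (τ * m * τ⁻¹) * u⁻¹, conj_mem_centralizer_of_inverts hm.u_inv
      (mul_mem (mul_mem (mem_centralizer_singleton_iff.2 hm.tau_y) m.2)
        (inv_mem (mem_centralizer_singleton_iff.2 hm.tau_y)))⟩ with hz
    set τB : ↥(centralizer ({y} : Set M)) := ⟨τ, hm.closure_le_centY hm.tau_mem⟩ with hτB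
    show θ (π uC) * (e m : G) * (θ (π uC))⁻¹ = _
    rw [hπu, map_mul, mul_inv_rev, show θ τC * θ uC * (e m : G) * ((θ uC)⁻¹ * (θ τC)⁻¹) =
      θ τC * (θ uC * (e m : G) * (θ uC)⁻¹) * (θ τC)⁻¹ by group, h m,
      show θ τC = (e τB : G) from (heS τ hm.tau_mem).symm]
    show ((e τB : G) * (e z : G) * (e τB : G)⁻¹) = _
    rw [← InvMemClass.coe_inv, ← Subgroup.coe_mul, ← Subgroup.coe_mul, ← map_inv, ← map_mul, ← map_mul]
    refine congrArg (fun b => (e b : G)) (Subtype.ext ?_)
    show τ * (u * (τ * (m : M) * τ⁻¹) * u⁻¹) * τ⁻¹ = u * m * u⁻¹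
    have hu : u⁻¹ = u := inv_eq_of_mul_eq_one_right hm.u_sq
    rw [inv_eq_of_mul_eq_one_right hm.tau_sq, hu, ← mul_assoc τ (u * (τ * (m : M) * τ)), ← mul_assoc τ u, ← hm.u_comm,
      show u * τ * (τ * (m : M) * τ) * u * τ = u * (τ * τ) * m * (τ * (u * τ)) by group, hm.tau_sq, mul_one,
      hm.u_comm, ← mul_assoc τ τ u, hm.tau_sq, one_mul]
  set f : ↥(centralizer ({y} : Set M)) →* G := (centralizer ({Y} : Set G)).subtype.comp e.toMonoidHom with hf
  have huu : u * u = 1 := hm.u_sq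
  have hUU : θ₂ uC * θ₂ uC = 1 := by
    rw [← map_mul, show uC * uC = 1 from Subtype.ext huu, map_one]
  have hyy : y⁻¹ ≠ y := fun h => hm.y_ne (eq_one_of_cube_of_two_pow (k := 1) hm.y_cube (by
    rw [pow_one, pow_two]; conv_lhs => lhs; rw [← h]
    exact inv_mul_cancel y))
  have huB : u ∉ centralizer ({y} : Set M) := by
    intro h
    have h' := hm.u_inv
    rw [mem_centralizer_singleton_iff.1 h, mul_inv_cancel_right] at h'
    exact hyy h'.symm
  have hNcases : ∀ x ∈ normalizer (zpowers y : Set M),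
      x ∈ centralizer ({y} : Set M) ∨ x * u ∈ centralizer ({y} : Set M) := by
    intro x hx
    rcases eq_or_eq_inv_of_mem_zpowers hm.y_cube ((mem_normalizer_iff.1 hx y).1 (mem_zpowers y))
      (fun h => hm.y_ne (conj_eq_one_iff.1 h)) with h | h
    · exact Or.inl (mem_centralizer_singleton_iff.2 (mul_inv_eq_iff_eq_mul.1 h))
    · refine Or.inr (mem_centralizer_singleton_iff.2 ?_)
      calc x * u * y = x * (u * y * u⁻¹) * u := by group
        _ = x * y⁻¹ * u := by rw [hm.u_inv]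
        _ = (x * y * x⁻¹)⁻¹ * x * u := by group
        _ = y * (x * u) := by rw [h, inv_inv, mul_assoc]
  obtain ⟨F, hFC, hFu⟩ := exists_extend_invol (centralizer ({y} : Set M)) (normalizer (zpowers y : Set M)) f
    huu hUU huB (fun c hc => conj_mem_centralizer_of_inverts hm.u_inv hc) hNcases hθu
  refine ⟨θ₂, hor, hinj, hrange, hθS, F, ?_, ?_, ?_, ?_⟩
  · refine (injective_iff_map_eq_one F).2 ?_
    rintro ⟨x, hx⟩ h1
    rcases hNcases x hx with hc | hc
    · rw [hFC x hx hc] at h1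
      have h2 := e.injective ((Subtype.ext h1 : e ⟨x, hc⟩ = 1).trans e.map_one.symm)
      exact Subtype.ext (show x = 1 from congrArg Subtype.val h2)
    · exfalso
      rw [hFu x hx hc] at h1
      have hUmem : θ₂ uC ∈ centralizer ({Y} : Set G) := by
        rw [eq_inv_of_mul_eq_one_right h1]
        exact inv_mem (e ⟨x * u, hc⟩).2
      have hU₂Y : θ₂ uC * Y * (θ₂ uC)⁻¹ = Y := by
        rw [mem_centralizer_singleton_iff.1 hUmem, mul_inv_cancel_right]
      set yB : ↥(centralizer ({y} : Set M)) := ⟨y, mem_centralizer_singleton_iff.2 rfl⟩ with hyB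
      have h3 : θ₂ uC * (e yB : G) * (θ₂ uC)⁻¹ = (e yB : G) := by
        rcases hey with hy | hy <;> rw [hy]
        · exact hU₂Y
        · rw [← conj_inv, hU₂Y]
      rw [hθu] at h3
      have h4 := congrArg Subtype.val (e.injective (Subtype.ext h3))
      simp only [hyB] at h4
      rw [hm.u_inv] at h4
      exact hyy h4
  · refine le_antisymm ?_ ?_
    · rintro _ ⟨⟨x, hx⟩, rfl⟩
      have hCN : centralizer ({Y} : Set G) ≤ normalizer (zpowers Y : Set G) := by
        intro z hz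
        refine mem_normalizer_iff.2 fun h => ?_
        constructor
        · intro hh
          obtain ⟨j, rfl⟩ := mem_zpowers_iff.1 hh
          rw [(Commute.zpow_right (mem_centralizer_singleton_iff.1 hz) j).eq, mul_inv_cancel_right]
          exact hh
        · intro hh
          obtain ⟨j, hj⟩ := mem_zpowers_iff.1 hh
          have : h = Y ^ j := by
            have hcj := (Commute.zpow_right (mem_centralizer_singleton_iff.1 hz) j).eq
            calc h = z⁻¹ * (z * h * z⁻¹) * z := by group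
              _ = z⁻¹ * (Y ^ j * z) := by rw [← hj, mul_assoc]
              _ = _ := by rw [← hcj, inv_mul_cancel_left]
          exact this ▸ zpow_mem (mem_zpowers Y) j
      rcases hNcases x hx with hc | hc
      · rw [hFC x hx hc]; exact hCN (e ⟨x, hc⟩).2
      · rw [hFu x hx hc]
        refine mul_mem (hCN (e ⟨x * u, hc⟩).2) (mem_normalizer_iff.2 fun h => ?_)
        have hU₂ : θ₂ uC * Y * (θ₂ uC)⁻¹ = Y⁻¹ := by
          have h5 := hθu ⟨y, mem_centralizer_singleton_iff.2 rfl⟩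
          have h6 : (e ⟨u * y * u⁻¹, conj_mem_centralizer_of_inverts hm.u_inv
              (mem_centralizer_singleton_iff.2 rfl)⟩ : G) =
              (e ⟨y, mem_centralizer_singleton_iff.2 rfl⟩ : G)⁻¹ := by
            rw [← InvMemClass.coe_inv, ← map_inv]
            exact congrArg (fun b => (e b : G)) (Subtype.ext hm.u_inv)
          rw [h6] at h5
          rcases hey with hy | hy <;> rw [hy] at h5
          · exact h5
          · rw [inv_inv, ← conj_inv] at h5
            exact inv_eq_iff_eq_inv.1 h5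
        constructor
        · intro hh
          obtain ⟨j, rfl⟩ := mem_zpowers_iff.1 hh
          rw [← conj_zpow, hU₂]
          exact zpow_mem (inv_mem (mem_zpowers Y)) j
        · intro hh
          obtain ⟨j, hj⟩ := mem_zpowers_iff.1 hh
          have hU₂' : (θ₂ uC)⁻¹ * Y * θ₂ uC = Y⁻¹ := by
            rw [← hU₂, inv_eq_of_mul_eq_one_right hUU]
          have : h = ((θ₂ uC)⁻¹ * Y * θ₂ uC) ^ j := by
            have := conj_zpow (i := j) (a := (θ₂ uC)⁻¹) (b := Y)
            rw [inv_inv] at this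
            rw [this, hj]; group
          rw [this, hU₂']
          exact zpow_mem (inv_mem (mem_zpowers Y)) j
    · intro z hz
      have hYC : Y ^ 3 = 1 := by
        rw [← hY, ← map_pow, show yC ^ 3 = 1 from Subtype.ext hm.y_cube, map_one]
      have hY1 : Y ≠ 1 := fun h => hm.y_ne (congrArg Subtype.val (hθ (hY.trans (h.trans (map_one θ).symm))))
      have huN : u ∈ normalizer (zpowers y : Set M) := by
        refine mem_normalizer_iff.2 fun h => ?_
        have hu : u⁻¹ = u := inv_eq_of_mul_eq_one_right hm.u_sq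
        constructor <;> intro hh <;> obtain ⟨j, hj⟩ := mem_zpowers_iff.1 hh
        · rw [← hj, ← conj_zpow, hm.u_inv]
          exact zpow_mem (inv_mem (mem_zpowers y)) j
        · have : h = (y⁻¹) ^ j := by
            rw [← hm.u_inv, conj_zpow, hj, hu, show u * (u * h * u) * u = u * u * h * (u * u) by group, hm.u_sq,
              one_mul, mul_one]
          exact this ▸ zpow_mem (inv_mem (mem_zpowers y)) j
      have hcent : ∀ w ∈ centralizer ({Y} : Set G), w ∈ F.range := by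
        intro w hw
        have hN : (e.symm ⟨w, hw⟩ : M) ∈ normalizer (zpowers y : Set M) :=
          centralizer_le_normalizer _ (show (e.symm ⟨w, hw⟩ : M) ∈ centralizer (zpowers y : Set M) by
            rw [zpowers_eq_closure, centralizer_closure]
            exact (e.symm ⟨w, hw⟩).2)
        exact ⟨⟨_, hN⟩, (hFC _ hN (e.symm ⟨w, hw⟩).2).trans (by
          show (e (e.symm ⟨w, hw⟩) : G) = w
          rw [e.apply_symm_apply])⟩
      have hUrange : θ₂ uC ∈ F.range := by
        refine ⟨⟨u, huN⟩, ?_⟩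
        have h1 : u * u ∈ centralizer ({y} : Set M) := by rw [huu]; exact one_mem _
        rw [hFu u huN h1, show (⟨u * u, h1⟩ : ↥(centralizer ({y} : Set M))) = 1 from Subtype.ext huu, map_one,
          one_mul]
      rcases eq_or_eq_inv_of_mem_zpowers hYC ((mem_normalizer_iff.1 hz Y).1 (mem_zpowers Y))
        (fun h => hY1 (conj_eq_one_iff.1 h)) with h | h
      · exact hcent z (mem_centralizer_singleton_iff.2 (mul_inv_eq_iff_eq_mul.1 h))
      · have hU₂ : θ₂ uC * Y * (θ₂ uC)⁻¹ = Y⁻¹ := by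
          rcases hor with rfl | rfl
          · exact hUY
          · show θ (π uC) * Y * (θ (π uC))⁻¹ = Y⁻¹
            rw [hπu, ← hY, ← map_inv, ← map_mul, ← map_mul, ← map_inv]
            refine congrArg θ (Subtype.ext ?_)
            show τ * u * y * (τ * u)⁻¹ = y⁻¹
            rw [mul_inv_rev, show τ * u * y * (u⁻¹ * τ⁻¹) = τ * (u * y * u⁻¹) * τ⁻¹ by group, hm.u_inv,
              ← conj_inv, hm.tau_y, mul_inv_cancel_right]
        have hmem : z * θ₂ uC ∈ centralizer ({Y} : Set G) := mem_centralizer_singleton_iff.2 (by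
          calc z * θ₂ uC * Y = z * (θ₂ uC * Y * (θ₂ uC)⁻¹) * θ₂ uC := by group
            _ = z * Y⁻¹ * θ₂ uC := by rw [hU₂]
            _ = (z * Y * z⁻¹)⁻¹ * z * θ₂ uC := by group
            _ = _ := by rw [h, inv_inv, mul_assoc])
        have := mul_mem (hcent _ hmem) (inv_mem hUrange)
        rwa [mul_inv_cancel_right] at this
  · rintro ⟨k, hkN⟩ hkτ hk
    change k ∈ closure (insert u S) at hk
    have hclN : ∀ w ∈ closure (insert u S), w ∈ centralizer ({τ} : Set M) ∧
        w ∈ normalizer (zpowers y : Set M) := by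
      intro w hw
      refine (closure_le (centralizer ({τ} : Set M) ⊓ normalizer (zpowers y : Set M))).2 ?_ hw
      rintro v (rfl | hv)
      · refine ⟨mem_centralizer_singleton_iff.2 hm.u_comm, mem_normalizer_iff.2 fun h => ?_⟩
        have hu : v⁻¹ = v := inv_eq_of_mul_eq_one_right hm.u_sq
        constructor <;> intro hh <;> obtain ⟨j, hj⟩ := mem_zpowers_iff.1 hh
        · rw [← hj, ← conj_zpow, hm.u_inv]
          exact zpow_mem (inv_mem (mem_zpowers y)) j
        · have : h = (y⁻¹) ^ j := by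
            rw [← hm.u_inv, conj_zpow, hj, hu, show v * (v * h * v) * v = v * v * h * (v * v) by group, hm.u_sq,
              one_mul, mul_one]
          exact this ▸ zpow_mem (inv_mem (mem_zpowers y)) j
      · refine ⟨mem_centralizer_singleton_iff.2 (hm.S_comm v hv), ?_⟩
        refine centralizer_le_normalizer _ (show v ∈ centralizer (zpowers y : Set M) from ?_)
        rw [zpowers_eq_closure, centralizer_closure]
        exact mem_centralizer_singleton_iff.2 (hm.S_y v hv)
    induction hk using closure_induction with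
    | mem w hw =>
      rcases hw with hw | hw
      · subst hw
        have h1 : w * w ∈ centralizer ({y} : Set M) := by rw [huu]; exact one_mem _
        rw [hFu w hkN h1, show (⟨w * w, h1⟩ : ↥(centralizer ({y} : Set M))) = 1 from Subtype.ext huu, map_one,
          one_mul]
      · rw [hFC w hkN (mem_centralizer_singleton_iff.2 (hm.S_y w hw))]
        exact (heS w (subset_closure hw)).trans (hθS w (subset_closure hw)).symm
    | one => exact (map_one F).trans (map_one θ₂).symm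
    | mul p q hp hq ihp ihq =>
      exact (map_mul F ⟨p, (hclN p hp).2⟩ ⟨q, (hclN q hq).2⟩).trans
        ((congrArg₂ (· * ·) (ihp (hclN p hp).2 (hclN p hp).1) (ihq (hclN q hq).2 (hclN q hq).1)).trans
          (map_mul θ₂ _ _).symm)
    | inv p hp ihp =>
      exact (map_inv F ⟨p, (hclN p hp).2⟩).trans
        ((congrArg (·⁻¹) (ihp (hclN p hp).2 (hclN p hp).1)).trans (map_inv θ₂ _).symm)
  · intro h
    rw [hFC y h (mem_centralizer_singleton_iff.2 rfl)]
    exact hey

end Main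

end CfsgLib.LyonsUnique
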