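import Mathlib.Algebra.Group.End
import Mathlib.Algebra.Group.Subgroup.Basic
import Mathlib.Data.Fin.Basic
import Mathlib.Data.List.Basic

/-!
Lyons uniqueness, piece A3a: over the centraliser `GL2(3)` of an involution `t` of a Mathieu group `M11`
acting on eleven points there is only one `M11`, and an embedding fixing `GL2(3)` pointwise is the identity or
conjugation by `t`.  The kernel check runs over all permutations `X` with `X t X⁻¹ = b` (at most 2304) and
keeps only those with `X² = 1` and `(X h)⁵ = 1`.  The checker is generic in the data (a permutation of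
`Fin 11` is coded by eleven hexadecimal digits, digit `i` = image of `i`), so that it can be instantiated at
the coordinates of any model.
-/
set_option autoImplicit false

namespace CfsgLib.LyonsUnique.M11

/-- digit `i` of a code: the image of `i` -/
def app (c i : ℕ) : ℕ := (c >>> (4 * i)) % 16

/-- `c` codes the permutation `σ` -/
def Codes (c : ℕ) (σ : Equiv.Perm (Fin 11)) : Prop := ∀ i : Fin 11, app c i.1 = (σ i).1

instance (c : ℕ) (σ : Equiv.Perm (Fin 11)) : Decidable (Codes c σ) :=
  inferInstanceAs (Decidable (∀ _, _))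

/-- value of a partial assignment, `11` if undefined -/
def val (acc : List (ℕ × ℕ)) (i : ℕ) : ℕ := ((acc.find? fun p => p.1 == i).map Prod.snd).getD 11

/-- at a leaf: the assignment is total, and either a relation fails or it is one of the two solutions -/
def leaf (hc xc yc : ℕ) (acc : List (ℕ × ℕ)) : Bool :=
  (List.range 11).all (fun i => Nat.blt (val acc i) 11) &&
    ((List.range 11).any (fun i => val acc (val acc i) != i) ||
     (List.range 11).any (fun i => ((fun v => val acc (app hc v))^[5]) i != i) ||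
     (List.range 11).all (fun i => val acc i == app xc i) ||
     (List.range 11).all (fun i => val acc i == app yc i))

/-- all injective assignments compatible with `X t = b X`, by orbit representatives of `t` -/
def go (tc bc hc xc yc : ℕ) : List ℕ → List (ℕ × ℕ) → Bool
  | [], acc => leaf hc xc yc acc
  | r :: rs, acc => (List.range 11).all fun q =>
      acc.any (fun p => p.2 == q && p.1 != r) || ((app tc r == r) != (app bc q == q)) ||
        go tc bc hc xc yc rs ((r, q) :: (app tc r, app bc q) :: acc)

/-- the check for the data `t`, `b`, `h` and the two expected solutions -/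
def check (tc bc hc xc yc : ℕ) (reps : List ℕ) : Bool :=
  reps.all (fun r => Nat.blt r 11) && go tc bc hc xc yc reps []

section sound

variable {tc bc hc xc yc : ℕ} {T B H X0 Y0 X : Equiv.Perm (Fin 11)}

/-- the assignment agrees with `X` -/
def Agrees (X : Equiv.Perm (Fin 11)) (acc : List (ℕ × ℕ)) : Prop :=
  ∀ p ∈ acc, ∃ i : Fin 11, p = (i.1, (X i).1)

theorem val_spec {acc : List (ℕ × ℕ)} (h : Agrees X acc) (i : Fin 11) (hv : val acc i.1 < 11) :
    val acc i.1 = (X i).1 := by
  rw [val] at hv ⊢
  cases hf : acc.find? (fun p => p.1 == i.1) with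
  | none => simp [hf] at hv
  | some p =>
    obtain ⟨j, rfl⟩ := h p (List.mem_of_find?_eq_some hf)
    have hj : j = i := Fin.ext (by simpa using List.find?_some hf)
    subst hj
    rfl

theorem leaf_sound (hH : Codes hc H) (hX0 : Codes xc X0) (hY0 : Codes yc Y0) (h2 : X * X = 1)
    (h5 : (X * H) ^ 5 = 1) {acc : List (ℕ × ℕ)} (hA : Agrees X acc) (h : leaf hc xc yc acc = true) :
    X = X0 ∨ X = Y0 := by
  simp only [leaf, Bool.and_eq_true, Bool.or_eq_true, List.all_eq_true, List.any_eq_true, List.mem_range,
    Nat.blt_eq, bne_iff_ne, beq_iff_eq] at h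
  obtain ⟨hv, h⟩ := h
  have hval : ∀ i : Fin 11, val acc i.1 = (X i).1 := fun i => val_spec hA i (hv i.1 i.2)
  rcases h with ((⟨i, hi, hne⟩ | ⟨i, hi, hne⟩) | h) | h
  · refine absurd ?_ hne
    rw [hval ⟨i, hi⟩, hval, ← Equiv.Perm.mul_apply, h2, Equiv.Perm.one_apply]
  · refine absurd ?_ hne
    have hstep : ∀ (n : ℕ) (j : Fin 11),
        ((fun v => val acc (app hc v))^[n]) j.1 = (((X * H) ^ n) j).1 := by
      intro n
      induction n with
      | zero => intro j; rfl
      | succ n ih =>
        intro j
        rw [Function.iterate_succ_apply', ih j, hH, hval, pow_succ', Equiv.Perm.mul_apply,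
          Equiv.Perm.mul_apply]
    rw [hstep 5 ⟨i, hi⟩, h5, Equiv.Perm.one_apply]
  · exact Or.inl (Equiv.ext fun i => Fin.ext (by rw [← hX0 i, ← hval i, h i.1 i.2]))
  · exact Or.inr (Equiv.ext fun i => Fin.ext (by rw [← hY0 i, ← hval i, h i.1 i.2]))

theorem go_sound (hT : Codes tc T) (hB : Codes bc B) (hH : Codes hc H) (hX0 : Codes xc X0)
    (hY0 : Codes yc Y0) (hc' : X * T * X⁻¹ = B) (h2 : X * X = 1) (h5 : (X * H) ^ 5 = 1) :
    ∀ (rs : List ℕ) (acc : List (ℕ × ℕ)), (∀ r ∈ rs, r < 11) → Agrees X acc →
      go tc bc hc xc yc rs acc = true → X = X0 ∨ X = Y0 := by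
  have hcomm : ∀ i : Fin 11, X (T i) = B (X i) := fun i => by
    rw [← Equiv.Perm.mul_apply, ← Equiv.Perm.mul_apply, ← hc', inv_mul_cancel_right]
  intro rs
  induction rs with
  | nil => intro acc _ hA h; exact leaf_sound hH hX0 hY0 h2 h5 hA h
  | cons r rs ih =>
    intro acc hr hA h
    obtain ⟨i, rfl⟩ : ∃ i : Fin 11, i.1 = r := ⟨⟨r, hr r List.mem_cons_self⟩, rfl⟩
    rw [go, List.all_eq_true] at h
    have hq := h (X i).1 (List.mem_range.2 (X i).2)
    simp only [Bool.or_eq_true, List.any_eq_true, Bool.and_eq_true, beq_iff_eq, bne_iff_ne] at hq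
    rcases hq with (⟨p, hp, e1, e2⟩ | hne) | hrec
    · obtain ⟨j, rfl⟩ := hA p hp
      exact absurd (congrArg Fin.val (X.injective (Fin.ext e1))) e2
    · exfalso
      apply hne
      rw [hT i, hB (X i)]
      have hiff : (T i = i) ↔ (B (X i) = X i) := by
        rw [← hcomm i]; exact X.injective.eq_iff.symm
      rw [beq_eq_decide, beq_eq_decide, decide_eq_decide, Fin.val_inj, Fin.val_inj]
      exact hiff
    · refine ih _ (fun s hs => hr s (List.mem_cons_of_mem _ hs)) ?_ hrec
      intro p hp
      rcases List.mem_cons.1 hp with rfl | hp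
      · exact ⟨i, rfl⟩
      rcases List.mem_cons.1 hp with rfl | hp
      · exact ⟨T i, by rw [hT i, hB (X i), hcomm i]⟩
      · exact hA p hp

theorem check_sound {reps : List ℕ} (h : check tc bc hc xc yc reps = true) (hT : Codes tc T)
    (hB : Codes bc B) (hH : Codes hc H) (hX0 : Codes xc X0) (hY0 : Codes yc Y0)
    (hc' : X * T * X⁻¹ = B) (h2 : X * X = 1) (h5 : (X * H) ^ 5 = 1) : X = X0 ∨ X = Y0 := by
  rw [check, Bool.and_eq_true, List.all_eq_true] at h
  exact go_sound hT hB hH hX0 hY0 hc' h2 h5 reps [] (fun r hr => Nat.blt_eq.mp (h.1 r hr))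
    (fun p hp => absurd hp (List.not_mem_nil)) h.2

/-- transported form: in a group with a faithful action on eleven points, an element `Z` behaving like `Z0`
towards `T` and `H` is `Z0` or its conjugate by `T` -/
theorem lift_eq {A : Type*} [Group A] (e : A →* Equiv.Perm (Fin 11)) (he : Function.Injective e)
    {reps : List ℕ} (h : check tc bc hc xc yc reps = true) {T B H Z0 Z : A}
    (hT : Codes tc (e T)) (hB : Codes bc (e B)) (hH : Codes hc (e H)) (hX0 : Codes xc (e Z0))
    (hY0 : Codes yc (e (T * Z0 * T⁻¹))) (h1 : Z * T * Z⁻¹ = B) (h2 : Z * Z = 1) (h5 : (Z * H) ^ 5 = 1) :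
    Z = Z0 ∨ Z = T * Z0 * T⁻¹ := by
  have hc' : e Z * e T * (e Z)⁻¹ = e B := by rw [← h1, map_mul, map_mul, map_inv]
  have hs : e Z * e Z = 1 := by rw [← map_mul, h2, map_one]
  have hf : (e Z * e H) ^ 5 = 1 := by rw [← map_mul, ← map_pow, h5, map_one]
  rcases check_sound h hT hB hH hX0 hY0 hc' hs hf with k | k
  · exact Or.inl (he k)
  · exact Or.inr (he k)

/-- two homomorphisms from a group generated by a set `S` and an involution `x` that agree on `S` agree
everywhere, or differ by conjugation with the image of `t` -/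
theorem hom_dichotomy {P A : Type*} [Group P] [Group A] (f1 f2 : P →* A) {S : Set P} {t x : P}
    (hgen : Subgroup.closure (S ∪ {x}) = ⊤) (hS : ∀ s ∈ S, f1 s = f2 s)
    (hts : ∀ s ∈ S, t * s = s * t)
    (hx : f2 x = f1 x ∨ f2 x = f1 t * f1 x * (f1 t)⁻¹) :
    (∀ p, f2 p = f1 p) ∨ (∀ p, f2 p = f1 (t * p * t⁻¹)) := by
  rcases hx with hx | hx
  · refine Or.inl (DFunLike.congr_fun (MonoidHom.eq_of_eqOn_dense hgen (g := f1) fun a ha => ?_))
    rcases ha with ha | ha
    · exact (hS a ha).symm
    · rw [Set.mem_singleton_iff] at ha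
      rw [ha, hx]
  · refine Or.inr (DFunLike.congr_fun (MonoidHom.eq_of_eqOn_dense hgen
      (g := f1.comp (MulAut.conj t).toMonoidHom) fun a ha => ?_))
    rcases ha with ha | ha
    · show f2 a = f1 (t * a * t⁻¹)
      rw [hts a ha, mul_inv_cancel_right, hS a ha]
    · rw [Set.mem_singleton_iff] at ha
      show f2 a = f1 (t * a * t⁻¹)
      rw [ha, hx, map_mul, map_mul, map_inv]

end sound

/-- the instance in standard coordinates of `M11 = <(1 2 .. 11), (3 7 11 8)(4 10 5 6)>` (points from 0) -/
theorem std_check : check 2578718083600 11343890903680 5121096770305 9184579182880 1452883261600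
    [0, 1, 2, 3, 5, 6, 8] = true := by
  decide +kernel

end CfsgLib.LyonsUnique.M11
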