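import Cfsg.Agent.Lib.LyonsUnique.Interface
import Cfsg.Agent.Lib.Presented.Ly.PermModel
import Cfsg.Agent.Lib.Small.Basic

/-!
# Uniqueness of the Lyons group: the assembly
-/

set_option autoImplicit false

noncomputable section

universe u

namespace CfsgLib.LyonsUnique

open Cfsg CfsgLib.Presented CfsgLib.Presented.Ly

variable {G : Type u} [Group G]

attribute [local irreducible] tauLy xc aLy yLy w1Ly w2Ly gLy KLy NLy rho

/-- The model facts used by the assembly. -/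
structure MainFacts : Prop where
  meet : NLy ⊓ CLy ≤ Subgroup.zpowers yLy ⊔ KLy
  y_mem : yLy ∈ CLy
  a_mem : aLy ∈ CLy
  K_le : KLy ≤ CLy
  top : CLy ⊔ NLy = ⊤
  cardN : Nat.card NLy ≤ 6 * 898128000

variable (hF : MainFacts) (hθ : ThetaExists.{u}) (hQ : QuotExists.{u}) (hN : NPairExists.{u})
  (hE : EdgeLifts.{u}) (hB : CompletionInjective.{u}) (hT : TopOfCent.{u})

include hF hθ hQ hN hE hB hT in
/-- The isomorphism. -/
theorem nonempty_equiv_of_pieces {t : G} (H : Hyp t) : Nonempty (G ≃* MLy) := by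
  haveI := H.simple
  haveI := H.finite
  obtain ⟨θ₀⟩ := hθ H
  obtain ⟨R, hR⟩ := hQ H θ₀
  obtain ⟨θ, DN, hDN⟩ := hN H θ₀ R hR
  have hed := hE H θ DN hDN
  set DC : Subgroup (G × MLy) := θ.pairs with hDC
  set D : Subgroup (G × MLy) := DN ⊔ DC with hD
  let π : D →* MLy := (MonoidHom.snd G MLy).comp D.subtype
  have hC : DC.map (MonoidHom.snd G MLy) = CLy := by
    ext x
    constructor
    · rintro ⟨_, ⟨c, rfl⟩, rfl⟩; exact c.2
    · exact fun hx => ⟨_, ⟨⟨x, hx⟩, rfl⟩, rfl⟩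
  have hiC : ∀ d ∈ DC, d.2 = 1 → d = 1 := by
    rintro _ ⟨c, rfl⟩ h
    have : c = 1 := Subtype.ext h
    rw [this, map_one]
  have hmapN : (DN.subgroupOf D).map π = NLy := by
    rw [← hDN.snd_eq]
    ext x
    constructor
    · rintro ⟨d, hd, rfl⟩; exact ⟨d.1, hd, rfl⟩
    · rintro ⟨d, hd, rfl⟩; exact ⟨⟨d, (le_sup_left : DN ≤ D) hd⟩, hd, rfl⟩
  have hmapC : (DC.subgroupOf D).map π = CLy := by
    rw [← hC]
    ext x
    constructor
    · rintro ⟨d, hd, rfl⟩; exact ⟨d.1, hd, rfl⟩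
    · rintro ⟨d, hd, rfl⟩; exact ⟨⟨d, (le_sup_right : DC ≤ D) hd⟩, hd, rfl⟩
  have hinj : ∀ (S : Subgroup (G × MLy)), (∀ d ∈ S, d.2 = 1 → d = 1) → Set.InjOn π (S.subgroupOf D) := by
    intro S hS a ha b hb h
    have := hS (a⁻¹ * b : D).1 (S.mul_mem (S.inv_mem ha) hb) (by
      show π (a⁻¹ * b) = 1
      rw [map_mul, map_inv, h, inv_mul_cancel])
    exact inv_mul_eq_one.mp (Subtype.ext this)
  have hint : NLy ⊓ CLy ≤ (DN.subgroupOf D ⊓ DC.subgroupOf D).map π := by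
    refine hF.meet.trans (sup_le ?_ ?_)
    · rw [Subgroup.zpowers_le]
      exact ⟨⟨_, (le_sup_left : DN ≤ D) (hed.mem_y hF.y_mem)⟩, ⟨hed.mem_y hF.y_mem, ⟨_, rfl⟩⟩, rfl⟩
    · intro k hk
      exact ⟨⟨_, (le_sup_left : DN ≤ D) (hDN.mem ⟨k, hF.K_le hk⟩ hk)⟩,
        ⟨hDN.mem ⟨k, hF.K_le hk⟩ hk, ⟨_, rfl⟩⟩, rfl⟩
  have hgen : DN.subgroupOf D ⊔ DC.subgroupOf D = ⊤ := by
    rw [← Subgroup.subgroupOf_sup le_sup_left le_sup_right, Subgroup.subgroupOf_self]
  have hlift : ∀ w, w ∈ DC.subgroupOf D → π w = aLy → ∀ d ∈ DN.subgroupOf D, π d = w1Ly ∨ π d = w2Ly →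
      w * d * w⁻¹ ∈ DN.subgroupOf D := by
    intro w hw hwa d hd hd'
    obtain ⟨c, hc⟩ := hw
    have hca : c = ⟨aLy, hF.a_mem⟩ := Subtype.ext ((congrArg Prod.snd hc).trans hwa)
    subst hca
    show (w : G × MLy) * d * (w : G × MLy)⁻¹ ∈ DN
    have hw' : ((θ.hom ⟨aLy, hF.a_mem⟩, aLy) : G × MLy) = ↑w := hc
    rw [← hw']
    exact hed.lift hF.a_mem d hd hd'
  have hπi : Function.Injective π :=
    hB hF.cardN π (DN.subgroupOf D) (DC.subgroupOf D) hmapN hmapC (hinj DN hDN.inj_snd) (hinj DC hiC) hint hgen hlift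
  have hπs : Function.Surjective π := by
    rw [← MonoidHom.range_eq_top, eq_top_iff, ← hF.top]
    refine sup_le ?_ ?_
    · rw [← hmapC]; exact (Subgroup.map_mono le_top).trans (MonoidHom.range_eq_map π).ge
    · rw [← hmapN]; exact (Subgroup.map_mono le_top).trans (MonoidHom.range_eq_map π).ge
  let e : MLy ≃* D := (MulEquiv.ofBijective π ⟨hπi, hπs⟩).symm
  let f : MLy →* G := ((MonoidHom.fst G MLy).comp D.subtype).comp e.toMonoidHom
  have hfD : ∀ d : D, f (π d) = d.1.1 := fun d => by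
    show (e (π d)).1.1 = _
    rw [show e (π d) = d from (MulEquiv.ofBijective π ⟨hπi, hπs⟩).symm_apply_apply d]
  have hCle : Subgroup.centralizer ({t} : Set G) ≤ f.range := by
    rw [← θ.range_eq]
    rintro _ ⟨c, rfl⟩
    exact ⟨(c : MLy), hfD ⟨(θ.hom c, (c : MLy)), (le_sup_right : DC ≤ D) ⟨c, rfl⟩⟩⟩
  have hfi : Function.Injective f := by
    haveI := Ly.simple
    rcases f.normal_ker.eq_bot_or_eq_top with h | h
    · exact (MonoidHom.ker_eq_bot_iff f).1 h
    · exfalso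
      obtain ⟨m, hm⟩ := hCle (Subgroup.mem_centralizer_singleton_iff.2 rfl : t ∈ _)
      have h1 : f m = 1 := MonoidHom.mem_ker.1 (h ▸ Subgroup.mem_top m)
      have h2 := H.order
      rw [← hm, h1, orderOf_one] at h2
      omega
  obtain ⟨g, hg, hgC⟩ : ∃ g ∈ f.range, g ∉ Subgroup.centralizer ({t} : Set G) := by
    by_contra hno
    push Not at hno
    have htau : tauLy ∈ CLy := Subgroup.mem_centralizer_singleton_iff.2 rfl
    have hcen : ∀ m : MLy, m * tauLy = tauLy * m := fun m => hfi (by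
      have := Subgroup.mem_centralizer_singleton_iff.1 (hno (f m) ⟨m, rfl⟩)
      rw [map_mul, map_mul]
      convert this using 2 <;> exact (hfD ⟨(θ.hom ⟨tauLy, htau⟩, tauLy), (le_sup_right : DC ≤ D) ⟨⟨tauLy, htau⟩, rfl⟩⟩).trans (θ.tau htau))
    haveI := Ly.simple
    have hmem : tauLy ∈ Subgroup.center MLy := Subgroup.mem_center_iff.2 hcen
    rcases (inferInstance : (Subgroup.center MLy).Normal).eq_bot_or_eq_top with h | h
    · rw [h, Subgroup.mem_bot] at hmem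
      have := orderOf_tauLy
      rw [hmem, orderOf_one] at this
      omega
    · haveI : IsMulCommutative MLy := ⟨⟨fun a b => (Subgroup.mem_center_iff.1 (h ▸ Subgroup.mem_top b)) a⟩⟩
      haveI := finite_Ly
      exact Small.nc_of_not_prime (G := MLy) (by rw [card_Ly]; norm_num) inferInstance
  exact ⟨(MulEquiv.ofBijective f ⟨hfi, MonoidHom.range_eq_top.1 (hT H _ hCle g hg hgC)⟩).symm⟩

end CfsgLib.LyonsUnique
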