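import Cfsg.Agent.Lib.LyonsUnique.Interface

/-!
# Uniqueness of the Lyons group: the sign on `y`

The edge lift turns the commutator `y² y'²` of two elements of order three into its image under the exchange of
`y` and `y'`; with `y` paired with its inverse that contradicts the injectivity.
-/

set_option autoImplicit false

noncomputable section

universe u

namespace CfsgLib.LyonsUnique

open Cfsg CfsgLib.Presented CfsgLib.Presented.Ly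

/-- The element used to move the first element of order three. -/
def kLy : MLy := cx [5, 6]

/-- The model facts for the sign. -/
structure SignFacts : Prop where
  a_mem : aLy ∈ CLy
  y_mem : yLy ∈ CLy
  K_le : KLy ≤ CLy
  a_sq : aLy * aLy = 1
  y'_mem : yLy' ∈ KLy
  k_mem : kLy ∈ KLy
  ak_mem : aLy * kLy * aLy⁻¹ ∈ KLy
  w1_memN : w1Ly ∈ NLy
  comm_w : w1Ly * (kLy * w1Ly * kLy⁻¹) * w1Ly⁻¹ * (kLy * w1Ly * kLy⁻¹)⁻¹ = yLy ^ 2 * yLy' ^ 2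
  y_cube : yLy ^ 3 = 1
  y'_ne : yLy' ≠ yLy
  y_comm : yLy * yLy' = yLy' * yLy

variable {G : Type u} [Group G]

attribute [local irreducible] cx tauLy xc aLy yLy yLy' w1Ly kLy KLy NLy CLy

theorem mem_y_of_lift (F : SignFacts) {t : G} {θ : Theta t} {DN : Subgroup (G × MLy)} (hD : NPair θ DN)
    (hlift : ∀ h : aLy ∈ CLy, ∀ d ∈ DN, d.2 = w1Ly →
      ((θ.hom ⟨aLy, h⟩, aLy) : G × MLy) * d * ((θ.hom ⟨aLy, h⟩, aLy) : G × MLy)⁻¹ ∈ DN)
    (hy : yLy ∈ CLy) : (θ.hom ⟨yLy, hy⟩, yLy) ∈ DN := by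
  rcases hD.mem_y hy with h | h
  · exact h
  exfalso
  obtain ⟨d1, hd1, hd1e⟩ : ∃ d ∈ DN, d.2 = w1Ly := by
    have := F.w1_memN
    rw [← hD.snd_eq, Subgroup.mem_map] at this
    exact this
  let pr : CLy → G × MLy := fun c => (θ.hom c, (c : MLy))
  have prm : ∀ c d : CLy, pr (c * d) = pr c * pr d := fun c d => Prod.ext (map_mul _ _ _) rfl
  have pri : ∀ c : CLy, pr c⁻¹ = (pr c)⁻¹ := fun c => Prod.ext (map_inv _ _) rfl
  let A : CLy := ⟨aLy, F.a_mem⟩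
  let K0 : CLy := ⟨kLy, F.K_le F.k_mem⟩
  let Y : CLy := ⟨yLy, hy⟩
  let Y' : CLy := ⟨yLy', F.K_le F.y'_mem⟩
  have hK : pr K0 ∈ DN := hD.mem K0 F.k_mem
  have hY' : pr Y' ∈ DN := hD.mem Y' F.y'_mem
  have hAK : pr A * pr K0 * (pr A)⁻¹ ∈ DN := by
    rw [← pri, ← prm, ← prm]; exact hD.mem _ F.ak_mem
  have hA1 : pr A * d1 * (pr A)⁻¹ ∈ DN := hlift F.a_mem d1 hd1 hd1e
  set c : G × MLy := d1 * (pr K0 * d1 * (pr K0)⁻¹) * d1⁻¹ * (pr K0 * d1 * (pr K0)⁻¹)⁻¹ with hc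
  have hcm : c ∈ DN := by
    have hk1 : pr K0 * d1 * (pr K0)⁻¹ ∈ DN := mul_mem (mul_mem hK hd1) (inv_mem hK)
    exact mul_mem (mul_mem (mul_mem hd1 hk1) (inv_mem hd1)) (inv_mem hk1)
  have hAc : pr A * c * (pr A)⁻¹ ∈ DN := by
    have e : pr A * c * (pr A)⁻¹ =
        (pr A * d1 * (pr A)⁻¹) * ((pr A * pr K0 * (pr A)⁻¹) * (pr A * d1 * (pr A)⁻¹) * (pr A * pr K0 * (pr A)⁻¹)⁻¹) *
          (pr A * d1 * (pr A)⁻¹)⁻¹ *
          ((pr A * pr K0 * (pr A)⁻¹) * (pr A * d1 * (pr A)⁻¹) * (pr A * pr K0 * (pr A)⁻¹)⁻¹)⁻¹ := by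
      rw [hc]; group
    rw [e]
    have hk1 := mul_mem (mul_mem hAK hA1) (inv_mem hAK)
    exact mul_mem (mul_mem (mul_mem hA1 hk1) (inv_mem hA1)) (inv_mem hk1)
  have huniq : ∀ d ∈ DN, ∀ d' ∈ DN, d.2 = d'.2 → d = d' := fun d hd d' hd' he =>
    mul_inv_eq_one.mp (hD.inj_snd _ (mul_mem hd (inv_mem hd')) (by
      rw [Prod.snd_mul, Prod.snd_inv, he, mul_inv_cancel]))
  let Z : G × MLy := ((θ.hom Y)⁻¹, yLy)
  have hZ : Z ∈ DN := h
  have hc2 : c = Z ^ 2 * pr Y' ^ 2 :=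
    huniq _ hcm _ (mul_mem (pow_mem hZ 2) (pow_mem hY' 2)) (by
      rw [hc]
      simp only [Prod.snd_mul, Prod.snd_inv, Prod.pow_snd, hd1e]
      exact F.comm_w)
  have hay : A * Y' * A⁻¹ = Y := Subtype.ext (by
    show aLy * yLy' * aLy⁻¹ = yLy
    rw [yLy', inv_eq_of_mul_eq_one_right F.a_sq]
    calc aLy * (aLy * yLy * aLy) * aLy = (aLy * aLy) * yLy * (aLy * aLy) := by group
      _ = yLy := by rw [F.a_sq, one_mul, mul_one])
  have hay' : A * Y * A⁻¹ = Y' := Subtype.ext (by show aLy * yLy * aLy⁻¹ = yLy'; rw [yLy'])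
  have hA2 : pr A * c * (pr A)⁻¹ = ((θ.hom Y')⁻¹, yLy') ^ 2 * pr Y ^ 2 := by
    have h1 : pr A * Z * (pr A)⁻¹ = ((θ.hom Y')⁻¹, yLy') := by
      refine Prod.ext ?_ ?_
      · show θ.hom A * (θ.hom Y)⁻¹ * (θ.hom A)⁻¹ = _
        rw [← map_inv, ← map_inv, ← map_mul, ← map_mul, ← map_inv]
        congr 1
        rw [← hay']; group
      · show aLy * yLy * aLy⁻¹ = yLy'
        rw [yLy']
    have h2 : pr A * pr Y' * (pr A)⁻¹ = pr Y := by rw [← pri, ← prm, ← prm, hay]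
    rw [hc2, ← h1, ← h2, conj_pow, conj_pow]
    group
  have hd' : pr Y' ^ 2 * Z ^ 2 ∈ DN := mul_mem (pow_mem hY' 2) (pow_mem hZ 2)
  have heq := huniq _ hAc _ hd' (by
    rw [hA2]
    simp only [Prod.snd_mul, Prod.pow_snd]
    rfl)
  rw [hA2] at heq
  have h1 := congrArg Prod.fst heq
  simp only [Prod.fst_mul, Prod.pow_fst] at h1
  change ((θ.hom Y')⁻¹) ^ 2 * θ.hom Y ^ 2 = θ.hom Y' ^ 2 * ((θ.hom Y)⁻¹) ^ 2 at h1
  rw [← map_inv, ← map_inv, ← map_pow, ← map_pow, ← map_pow, ← map_pow, ← map_mul, ← map_mul] at h1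
  have h2 : (yLy'⁻¹) ^ 2 * yLy ^ 2 = yLy' ^ 2 * (yLy⁻¹) ^ 2 := congrArg Subtype.val (θ.inj h1)
  have hy3 : yLy⁻¹ = yLy ^ 2 := inv_eq_of_mul_eq_one_right (by rw [← pow_succ']; exact F.y_cube)
  have hy'3 : yLy' ^ 3 = 1 := by rw [yLy', conj_pow, F.y_cube, mul_one, mul_inv_cancel]
  have hy'i : yLy'⁻¹ = yLy' ^ 2 := inv_eq_of_mul_eq_one_right (by rw [← pow_succ']; exact hy'3)
  rw [hy3, hy'i, ← pow_mul, ← pow_mul] at h2
  have e4 : yLy' ^ (2 * 2) = yLy' := by rw [show 2 * 2 = 3 + 1 from rfl, pow_add, hy'3, one_mul, pow_one]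
  have e4' : yLy ^ (2 * 2) = yLy := by rw [show 2 * 2 = 3 + 1 from rfl, pow_add, F.y_cube, one_mul, pow_one]
  rw [e4, e4'] at h2
  apply F.y'_ne
  have h5 : yLy = yLy' := by
    rw [pow_two yLy', mul_assoc, pow_two] at h2
    exact mul_right_cancel (mul_left_cancel h2)
  exact h5.symm

end CfsgLib.LyonsUnique
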