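import Cfsg.Agent.Lib.LyonsUnique.Defs
import Cfsg.Agent.Lib.LyonsUnique.CentAut

/-!
# Uniqueness of the Lyons group: the outer automorphism on the centraliser

`CentAut.exists_twist` in the form the lift at `N(⟨y⟩)` uses: products of two of the `xc i`, `i ≥ 1`, are fixed,
`y` is inverted, `tauLy` is fixed and `uLy` is multiplied by `tauLy`.
-/

set_option autoImplicit false

noncomputable section

namespace CfsgLib.LyonsUnique

open Subgroup CfsgLib.Presented.Ly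

/-- The outer automorphism of the centraliser of the involution of the model. -/
theorem exists_twist_centralizer : ∃ π : MulAut ↥(centralizer ({tauLy} : Set MLy)),
    (∀ h : yLy ∈ centralizer ({tauLy} : Set MLy), π ⟨yLy, h⟩ = ⟨yLy, h⟩⁻¹) ∧
    (∀ h : tauLy ∈ centralizer ({tauLy} : Set MLy), π ⟨tauLy, h⟩ = ⟨tauLy, h⟩) ∧
    (∀ i j : ℕ, 1 ≤ i → i < 9 → 1 ≤ j → j < 9 → ∀ h : xc i * xc j ∈ centralizer ({tauLy} : Set MLy),
      π ⟨xc i * xc j, h⟩ = ⟨xc i * xc j, h⟩) ∧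
    ∀ (h : uLy ∈ centralizer ({tauLy} : Set MLy)) (ht : tauLy ∈ centralizer ({tauLy} : Set MLy)),
      π ⟨uLy, h⟩ = ⟨tauLy, ht⟩ * ⟨uLy, h⟩ := by
  obtain ⟨π, hy, hx⟩ := exists_twist
  have hτ : π tauC = tauC := by
    conv_lhs => rw [← xC_sq (i := 1) le_rfl]
    rw [map_mul, hx 1 le_rfl, ← pow_two, tauC_mul_pow, pow_two, pow_two, tauC_mul_tauC, one_mul,
      xC_sq (i := 1) le_rfl]
  have h2 : ∀ i j : Fin 9, 1 ≤ (i : ℕ) → 1 ≤ (j : ℕ) → π (xC i * xC j) = xC i * xC j := fun i j hi hj => by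
    rw [map_mul, hx i hi, hx j hj, mul_assoc, ← mul_assoc (xC i) tauC, tauC_mul_comm, mul_assoc,
      ← mul_assoc tauC tauC, tauC_mul_tauC, one_mul]
  refine ⟨π, fun _ => hy, fun _ => hτ, fun i j hi hi9 hj hj9 _ => h2 ⟨i, hi9⟩ ⟨j, hj9⟩ hi hj, fun h ht => ?_⟩
  have e : (⟨uLy, h⟩ : ↥C11) = xC 7 * (xC 5 * xC 2) := Subtype.ext (by
    show cx [7, 5, 2] = xc (7 : Fin 9) * (xc (5 : Fin 9) * xc (2 : Fin 9))
    simp only [cx, List.map_cons, List.map_nil, List.prod_cons, List.prod_nil, mul_one]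
    rfl)
  show π (⟨uLy, h⟩ : ↥C11) = tauC * (⟨uLy, h⟩ : ↥C11)
  rw [e, map_mul, h2 5 2 (by decide) (by decide), hx 7 (by decide), mul_assoc]

end CfsgLib.LyonsUnique
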